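import Mathlib

/-!
The quotient by a self-centralising elementary abelian normal subgroup of order eight in a group of
order 1344.
-/

set_option autoImplicit false

namespace CfsgLib.InvChar.AEight

/-- `GL₃(2)` is `PSL₃(2)`. -/
theorem gl_three_two_psl :
    Nonempty (GL (Fin 3) (ZMod 2) ≃* Matrix.ProjectiveSpecialLinearGroup (Fin 3) (ZMod 2)) := by
  have hone : ∀ u : (ZMod 2)ˣ, u = 1 := by decide
  let f : Matrix.SpecialLinearGroup (Fin 3) (ZMod 2) →* GL (Fin 3) (ZMod 2) :=
    Matrix.SpecialLinearGroup.toGL
  have hf : Function.Bijective f := by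
    refine ⟨Matrix.SpecialLinearGroup.toGL_injective, fun g => ?_⟩
    have hdet := congrArg Units.val (hone (Matrix.GeneralLinearGroup.det g))
    rw [Matrix.GeneralLinearGroup.val_det_apply] at hdet
    exact ⟨⟨g, hdet⟩, Units.ext rfl⟩
  have hc : Subgroup.center (Matrix.SpecialLinearGroup (Fin 3) (ZMod 2)) = ⊥ := by
    rw [← Subgroup.card_eq_one,
      Nat.card_congr (Matrix.SpecialLinearGroup.center_equiv_rootsOfUnity).toEquiv]
    exact Nat.card_eq_one_iff_unique.mpr
      ⟨⟨fun a b => Subtype.ext ((hone a.1).trans (hone b.1).symm)⟩, ⟨1⟩⟩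
  exact ⟨(((QuotientGroup.quotientMulEquivOfEq hc).trans QuotientGroup.quotientBot).trans
    (MulEquiv.ofBijective f hf)).symm⟩

/-- (Additive E) group of order 1344 with a self-centralising elementary abelian normal subgroup of order
eight has quotient `PSL₃(2)`. -/
theorem quotient_psl {G : Type*} [Group G] [Finite G] (E : Subgroup G) [E.Normal]
    (hcomm : IsMulCommutative E) (hexp : ∀ n ∈ E, n ^ 2 = 1) (h8 : Nat.card E = 8)
    (hC : Subgroup.centralizer (E : Set G) = E) (hG : Nat.card G = 1344) :
    Nonempty (G ⧸ E ≃* Matrix.ProjectiveSpecialLinearGroup (Fin 3) (ZMod 2)) := by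
  classical
  letI : CommGroup E := { E.toGroup with mul_comm := fun a b => hcomm.is_comm.comm a b }
  letI : Module (ZMod 2) (Additive E) := AddCommGroup.zmodModule (n := 2) (fun x => by
    apply Additive.toMul.injective
    rw [toMul_nsmul, toMul_zero]
    exact Subtype.ext (hexp _ (Additive.toMul x).2))
  haveI : Finite (Additive E) := inferInstanceAs (Finite E)
  have hdim : Module.finrank (ZMod 2) (Additive E) = 3 := by
    have h := Module.natCard_eq_pow_finrank (K := ZMod 2) (V := (Additive E))
    rw [Nat.card_congr (Additive.toMul (α := E)), h8, Nat.card_zmod] at h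
    exact (Nat.pow_right_injective le_rfl (show 2 ^ 3 = 2 ^ Module.finrank (ZMod 2) (Additive E) from h)).symm
  let b : Module.Basis (Fin 3) (ZMod 2) (Additive E) := Module.finBasisOfFinrankEq _ _ hdim
  -- conjugation as linear maps
  let lin : G → ((Additive E) →ₗ[ZMod 2] (Additive E)) := fun g =>
    ((MulAut.conjNormal g : MulAut E).toMonoidHom.toAdditive).toZModLinearMap 2
  have hlin : ∀ (g : G) (x : (Additive E)),
      ((Additive.toMul (lin g x) : E) : G) = g * ((Additive.toMul x : E) : G) * g⁻¹ := fun g x =>
    MulAut.conjNormal_apply g _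
  let Φ : G →* GL (Fin 3) (ZMod 2) := MonoidHom.toHomUnits
    { toFun := fun g => LinearMap.toMatrixAlgEquiv b (lin g)
      map_one' := by
        rw [show lin 1 = LinearMap.id from LinearMap.ext fun x => Additive.toMul.injective
          (Subtype.ext (by rw [hlin]; simp))]
        exact LinearMap.toMatrixAlgEquiv_id b
      map_mul' := fun g h => by
        rw [show lin (g * h) = lin g ∘ₗ lin h from LinearMap.ext fun x => Additive.toMul.injective
          (Subtype.ext (by rw [LinearMap.comp_apply, hlin, hlin, hlin]; group))]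
        exact LinearMap.toMatrixAlgEquiv_comp b _ _ }
  have hker : Φ.ker = E := by
    ext g
    rw [MonoidHom.mem_ker]
    constructor
    · intro h
      have h' : lin g = LinearMap.id := by
        apply (LinearMap.toMatrixAlgEquiv b).injective
        rw [LinearMap.toMatrixAlgEquiv_id]
        exact congrArg Units.val h
      rw [← hC, Subgroup.mem_centralizer_iff]
      intro x hx
      have := hlin g (Additive.ofMul ⟨x, hx⟩)
      rw [h'] at this
      exact (eq_mul_inv_iff_mul_eq.1 this)
    · intro hg
      have h' : lin g = LinearMap.id := LinearMap.ext fun x => Additive.toMul.injective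
        (Subtype.ext (by
          rw [hlin, LinearMap.id_apply, mul_inv_eq_iff_eq_mul]
          exact congrArg Subtype.val (mul_comm (⟨g, hg⟩ : E) (Additive.toMul x))))
      refine Units.ext ?_
      show LinearMap.toMatrixAlgEquiv b (lin g) = 1
      rw [h', LinearMap.toMatrixAlgEquiv_id]
  have h168 : Nat.card (G ⧸ E) = 168 := by
    have := Subgroup.card_eq_card_quotient_mul_card_subgroup E
    rw [hG, h8] at this
    omega
  have hcardGL : Nat.card (GL (Fin 3) (ZMod 2)) = 168 := by
    rw [Matrix.card_GL_field, ZMod.card, Fin.prod_univ_three]; rfl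
  let e : G ⧸ E ≃* Φ.range :=
    (QuotientGroup.quotientMulEquivOfEq hker.symm).trans (QuotientGroup.quotientKerEquivRange Φ)
  have htop : Φ.range = ⊤ := by
    refine Subgroup.eq_top_of_card_eq _ ?_
    rw [hcardGL, ← h168, Nat.card_congr e.toEquiv]
  obtain ⟨e'⟩ := gl_three_two_psl
  exact ⟨((e.trans (MulEquiv.subgroupCongr htop)).trans Subgroup.topEquiv).trans e'⟩

end CfsgLib.InvChar.AEight
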