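import Cfsg.Agent.Lib.InvChar.AEight.Setting
import Cfsg.Agent.Lib.InvChar.AEight.Quotient
import Cfsg.Agent.Lib.InvChar.MTwelve.CentB

/-!
The fusion pattern `Fus3`: the group is an extension of an elementary abelian group of order eight
by `PSL₃(2)`.
-/

set_option autoImplicit false
set_option linter.unusedSectionVars false
set_option linter.style.haveILetI false
set_option maxRecDepth 100000

open Cfsg CfsgLib.Involutions

namespace CfsgLib.InvChar.AEight

universe u

theorem affine_check : (all1 fun i =>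
    (!(2 < lab i : Bool) || any1 fun j =>
      inE j && !((mul j (cj i j)).val == 0) && com i (mul j (cj i j))) &&
    (!(2 < lab i : Bool) || lab i == 3 || lab i == 4 ||
      all1 fun j => !inE j || !((mul j (cj i j)).val == kz.val)) &&
    (!(lab i == 3 || lab i == 4) || ((all1 fun j =>
      !inE j || (mul j (cj i j)).val == 0 || (mul j (cj i j)).val == kz.val) &&
      any1 fun j => inE j && lab j == 2 && com j i)) &&
    (inE i || any1 fun j => inE j && !com i j) &&
    (!inE i || ((mul i i).val == 0 && all1 fun j => !inE j || com i j))) = true := by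
  decide +kernel

theorem inE_cases {i : I} (h : inE i = true) : i = 0 ∨ lab i = 1 ∨ lab i = 2 := by
  have h' := all1_spec mem_check i
  simp only [Bool.and_eq_true, beq_iff_eq] at h'
  have h'' := h'.1.1.1.1.1
  rw [h] at h''
  simp only [Eq.comm (a := true), Bool.or_eq_true, beq_iff_eq] at h''
  rcases h'' with (e | e) | e
  · exact Or.inl (Fin.ext e)
  · right; left; rw [show i = kz from Fin.ext e]; exact lab_rep.1
  · exact Or.inr (Or.inr e)

theorem inE_of_lab {i : I} (h : lab i = 1 ∨ lab i = 2) : inE i = true := by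
  have h' := all1_spec mem_check i
  simp only [Bool.and_eq_true, beq_iff_eq] at h'
  rw [h'.1.1.1.1.1]
  rcases h with e | e
  · rw [((Ctr.cc_of_lab).1 e).2]; simp
  · simp [e]

namespace Ctr

variable {G : Type u} [Group G] [Finite G] {z : G} (X : Ctr z)
include X

/-- The elementary group of order eight with the label two. -/
def subE : Subgroup G :=
  X.sub inE sub_check.2.2.2.2.2.2.2.2.1 fun i j hi hj => by
    have h := all1_spec (all1_spec closed_check i) j
    simp only [Bool.and_eq_true] at h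
    have h' := h.1.2
    rw [hi, hj] at h'
    simpa using h'

theorem mem_subE {g : G} : g ∈ X.subE ↔ ∃ i, inE i = true ∧ X.φ i = g := Iff.rfl

theorem phi_mem_subE {i : I} (h : inE i = true) : X.φ i ∈ X.subE := ⟨i, h, rfl⟩

theorem z_mem_subE : z ∈ X.subE := by
  have h := X.phi_mem_subE (inE_of_lab (Or.inl lab_rep.1))
  rwa [X.z_eq] at h

theorem subE_sq {g : G} (hg : g ∈ X.subE) : g * g = 1 := by
  obtain ⟨i, hi, rfl⟩ := hg
  have h := all1_spec affine_check i
  simp only [Bool.and_eq_true, Bool.or_eq_true, Bool.not_eq_true', beq_iff_eq] at h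
  have h' := h.2.resolve_left (by simp [hi])
  rw [← X.map_mul, show mul i i = 0 from Fin.ext h'.1, X.map_one]

theorem subE_comm {g h : G} (hg : g ∈ X.subE) (hh : h ∈ X.subE) : g * h = h * g := by
  obtain ⟨i, hi, rfl⟩ := hg
  obtain ⟨j, hj, rfl⟩ := hh
  have h := all1_spec affine_check i
  simp only [Bool.and_eq_true, Bool.or_eq_true, Bool.not_eq_true', beq_iff_eq] at h
  have h' := all1_spec (h.2.resolve_left (by simp [hi])).2 j
  exact (X.com_iff i j).1 (by simpa [hj] using h')

theorem card_subE : Nat.card X.subE = 8 := by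
  rw [X.card_image inE X.subE fun g => Iff.rfl]
  exact sub_check.2.2.2.1

/-- The commutator of an element of `E` with `φ i` on indices. -/
theorem map_comm (i j : I) :
    X.φ (mul j (cj i j)) = X.φ j * (X.φ i * X.φ j * (X.φ i)⁻¹) := by rw [X.map_mul, X.map_cj]

/-- The elements conjugating `z` into `E`. -/
def InM (g : G) : Prop := g * z * g⁻¹ ∈ X.subE

variable (hF : Fus3 X)
include hF

theorem isConj_of_mem {u : G} (hu : u ∈ X.subE) (hu1 : u ≠ 1) : IsConj z u := by
  obtain ⟨i, hi, rfl⟩ := hu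
  rcases inE_cases hi with e | e | e
  · exact absurd (e ▸ X.map_one) hu1
  all_goals exact (hF i (by omega)).1.2 (by omega)

theorem mem_of_isConj {v : G} (hc : IsConj z v) (hv : v * z = z * v) : v ∈ X.subE ∧ v ≠ 1 := by
  obtain ⟨g, hg⟩ := isConj_iff.1 hc
  have ho : orderOf v = 2 := by rw [← hg, orderOf_conj, X.orderOf_z]
  obtain ⟨i, rfl, hi⟩ := X.exists_index_of_involution ho hv
  exact ⟨X.phi_mem_subE (inE_of_lab ((hF i hi).1.1 hc)), (X.lab_ne_zero.1 hi).1⟩

/-- An element conjugating `z` into `E` normalises `E`. -/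
theorem norm {g : G} (hg : X.InM g) :
    ∀ e ∈ X.subE, g * e * g⁻¹ ∈ X.subE ∧ g⁻¹ * e * g ∈ X.subE := by
  have hback : ∀ e ∈ X.subE, g⁻¹ * e * g ∈ X.subE := by
    intro e he
    by_cases h1 : e = 1
    · rw [h1]; simp [X.subE.one_mem]
    refine (X.mem_of_isConj hF ((X.isConj_of_mem hF he h1).trans
      (isConj_iff.2 ⟨g⁻¹, by group⟩)) ?_).1
    have h := comm_conj g⁻¹ (X.subE_comm he hg)
    rwa [inv_inv, show g⁻¹ * (g * z * g⁻¹) * g = z by group] at h
  let f : X.subE → X.subE := fun e => ⟨g⁻¹ * e * g, hback e e.2⟩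
  have hf : Function.Injective f := fun a b e =>
    Subtype.ext (mul_left_cancel (mul_right_cancel (congrArg Subtype.val e :)))
  intro e he
  refine ⟨?_, hback e he⟩
  obtain ⟨a, ha⟩ := (Finite.injective_iff_surjective.1 hf) ⟨e, he⟩
  have ha' : g⁻¹ * (a : G) * g = e := congrArg Subtype.val ha
  rw [← ha', show g * (g⁻¹ * (a : G) * g) * g⁻¹ = a by group]
  exact a.2

theorem inM_mul {g h : G} (hg : X.InM g) (hh : X.InM h) : X.InM (g * h) := by
  show g * h * z * (g * h)⁻¹ ∈ X.subE
  rw [MTwelve.conj_step]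
  exact (X.norm hF hg _ hh).1

theorem inM_inv {g : G} (hg : X.InM g) : X.InM g⁻¹ := by
  show g⁻¹ * z * g⁻¹⁻¹ ∈ X.subE
  rw [inv_inv]
  exact (X.norm hF hg z X.z_mem_subE).2

/-- An element carrying `z` to a given element of `E`. -/
theorem exists_inM {u : G} (hu : u ∈ X.subE) (hu1 : u ≠ 1) :
    ∃ m, X.InM m ∧ m * z * m⁻¹ = u := by
  obtain ⟨m, hm⟩ := isConj_iff.1 (X.isConj_of_mem hF hu hu1)
  exact ⟨m, show m * z * m⁻¹ ∈ X.subE from hm ▸ hu, hm⟩

/-- Centralisers of elements of `E` normalise `E`. -/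
theorem inM_of_comm_mem {g u : G} (hu : u ∈ X.subE) (hu1 : u ≠ 1) (h : g * u = u * g) :
    X.InM g := by
  obtain ⟨m, hm, hmz⟩ := X.exists_inM hF hu hu1
  have hgm : X.InM (g * m) := by
    show g * m * z * (g * m)⁻¹ ∈ X.subE
    rw [MTwelve.conj_step, hmz, MTwelve.conj_fix h]
    exact hu
  have := X.inM_mul hF hgm (X.inM_inv hF hm)
  rwa [mul_inv_cancel_right] at this

theorem inM_phi (i : I) : X.InM (X.φ i) :=
  X.inM_of_comm_mem hF X.z_mem_subE (fun e => by
    have := X.orderOf_z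
    rw [e, orderOf_one] at this
    omega) (X.comm_z i)

/-- An involution normalising `E` centralises a nontrivial element of it. -/
theorem exists_fixed {w : G} (hw : w * w = 1) (hM : X.InM w) :
    ∃ u ∈ X.subE, u ≠ 1 ∧ w * u = u * w := by
  classical
  let α := {e : X.subE // e ≠ 1}
  let act : α → α := fun e => ⟨⟨w * (e.1 : G) * w⁻¹, (X.norm hF hM _ e.1.2).1⟩, fun h => e.2
    (Subtype.ext (conj_eq_one_iff.1 (congrArg Subtype.val h)))⟩
  have hinv : Function.Involutive act := fun e => Subtype.ext (Subtype.ext (by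
    show w * (w * (e.1 : G) * w⁻¹) * w⁻¹ = e.1
    rw [show w * (w * (e.1 : G) * w⁻¹) * w⁻¹ = (w * w) * e.1 * (w * w)⁻¹ by group, hw]
    group))
  let σ : Equiv.Perm α := hinv.toPerm act
  haveI : Fintype α := Fintype.ofFinite α
  haveI : Fintype X.subE := Fintype.ofFinite _
  have hα : Fintype.card α = 7 := by
    rw [← Nat.card_eq_fintype_card, Nat.card_eq_fintype_card, Fintype.card_subtype_compl,
      ← Nat.card_eq_fintype_card, X.card_subE]
    simp
  haveI := Fact.mk Nat.prime_two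
  obtain ⟨e, he⟩ := Equiv.Perm.exists_fixed_point_of_prime (p := 2) (n := 1)
    (by rw [hα]; norm_num) (σ := σ) (by
      ext e
      simp only [pow_one, pow_two, Equiv.Perm.mul_apply, Equiv.Perm.one_apply]
      exact congrArg (fun x : α => ((x.1 : X.subE) : G)) (hinv e))
  exact ⟨e.1, e.1.2, fun h => e.2 (Subtype.ext h),
    MTwelve.comm_of_conj_fix (congrArg (fun x : α => ((x.1 : X.subE) : G)) he :)⟩

/-- An involution normalising `E` lies in it or is conjugate to one of label three or four. -/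
theorem involution_cases {w : G} (hw : orderOf w = 2) (hM : X.InM w) :
    w ∈ X.subE ∨ ∃ m i, X.InM m ∧ (lab i = 3 ∨ lab i = 4) ∧ m * w * m⁻¹ = X.φ i := by
  have hww : w * w = 1 := by rw [← pow_two, ← hw, pow_orderOf_eq_one]
  obtain ⟨u, hu, hu1, hwu⟩ := X.exists_fixed hF hww hM
  obtain ⟨m, hm, hmz⟩ := X.exists_inM hF hu hu1
  have hc : m⁻¹ * w * m * z = z * (m⁻¹ * w * m) := by
    have h := comm_conj m⁻¹ hwu
    rwa [inv_inv, show m⁻¹ * u * m = z by rw [← hmz]; group] at h
  obtain ⟨i, hi, hil⟩ := X.exists_index_of_involution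
    (show orderOf (m⁻¹ * w * m) = 2 by
      have := orderOf_conj m⁻¹ w
      rw [inv_inv] at this
      rw [this, hw]) hc
  by_cases h2 : lab i = 1 ∨ lab i = 2
  · left
    have h := (X.norm hF hm _ (hi ▸ X.phi_mem_subE (inE_of_lab h2))).1
    rwa [show m * (m⁻¹ * w * m) * m⁻¹ = w by group] at h
  · right
    have hchk := all1_spec affine_check i
    simp only [Bool.and_eq_true, Bool.or_eq_true, Bool.not_eq_true', decide_eq_false_iff_not,
      beq_iff_eq] at hchk
    obtain ⟨j, hj⟩ := any1_spec (hchk.1.1.1.1.resolve_left (by omega))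
    simp only [Bool.and_eq_true, Bool.not_eq_true', beq_eq_false_iff_ne] at hj
    obtain ⟨⟨hjE, hj0⟩, hjc⟩ := hj
    set t := X.φ (mul j (cj i j)) with ht
    have htE : t ∈ X.subE := by
      rw [ht, X.map_comm]
      exact X.subE.mul_mem (X.phi_mem_subE hjE)
        (X.norm hF (X.inM_phi hF i) _ (X.phi_mem_subE hjE)).1
    have ht1 : t ≠ 1 := fun e => hj0 (by rw [X.inj (e.trans X.map_one.symm)]; rfl)
    obtain ⟨n, hn, hnz⟩ := X.exists_inM hF htE ht1
    have htw : X.φ i * t = t * X.φ i := (X.com_iff _ _).1 hjc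
    have hc' : n⁻¹ * X.φ i * n * z = z * (n⁻¹ * X.φ i * n) := by
      have h := comm_conj n⁻¹ htw
      rwa [inv_inv, show n⁻¹ * t * n = z by rw [← hnz]; group] at h
    obtain ⟨k, hk, hkl⟩ := X.exists_index_of_involution
      (show orderOf (n⁻¹ * X.φ i * n) = 2 by
        have := orderOf_conj n⁻¹ (X.φ i)
        rw [inv_inv] at this
        rw [this, X.orderOf_phi hil]) hc'
    refine ⟨n⁻¹ * m⁻¹, k, X.inM_mul hF (X.inM_inv hF hn) (X.inM_inv hF hm), ?_, ?_⟩
    · obtain ⟨j', hj', hje⟩ := (X.norm hF (X.inM_inv hF hn) _ (X.phi_mem_subE hjE)).1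
      rw [inv_inv] at hje
      have hchk' := all1_spec affine_check k
      simp only [Bool.and_eq_true, Bool.or_eq_true, Bool.not_eq_true', decide_eq_false_iff_not,
        beq_iff_eq] at hchk'
      have hnE : X.φ k ∉ X.subE := by
        intro hkE
        have h := (X.norm hF hn _ hkE).1
        rw [hk, show n * (n⁻¹ * X.φ i * n) * n⁻¹ = X.φ i by group] at h
        obtain ⟨i', hi', e⟩ := h
        obtain rfl := X.inj e
        rcases inE_cases hi' with e | e | e
        · exact hil (e ▸ (by decide +kernel : lab 0 = 0))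
        · exact h2 (Or.inl e)
        · exact h2 (Or.inr e)
      rcases hchk'.1.1.1.2 with ((e | e) | e) | e
      · exfalso
        exact hnE (X.phi_mem_subE (inE_of_lab (by omega)))
      · exact Or.inl e
      · exact Or.inr e
      · exfalso
        have h := all1_spec e j'
        simp only [hj', Bool.not_true, Bool.false_or, Bool.not_eq_true', beq_eq_false_iff_ne] at h
        refine h (congrArg Fin.val (X.inj ?_))
        rw [X.map_comm, X.z_eq, hje, hk,
          show n⁻¹ * X.φ j * n * (n⁻¹ * X.φ i * n * (n⁻¹ * X.φ j * n) * (n⁻¹ * X.φ i * n)⁻¹) =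
            n⁻¹ * (X.φ j * (X.φ i * X.φ j * (X.φ i)⁻¹)) * n by group, ← X.map_comm, ← ht, ← hnz]
        group
    · rw [hk, hi]; group

/-- The centraliser of an involution of label three or four fixes `z` inside `N(E)`. -/
theorem comm_z_of_inM {i : I} (hi : lab i = 3 ∨ lab i = 4) {g : G} (hg : X.InM g)
    (h : g * X.φ i = X.φ i * g) : g * z = z * g := by
  have hchk := all1_spec affine_check i
  simp only [Bool.and_eq_true, Bool.or_eq_true, Bool.not_eq_true', decide_eq_false_iff_not,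
    Bool.or_eq_false_iff, beq_eq_false_iff_ne] at hchk
  obtain ⟨hall, -⟩ := hchk.1.1.2.resolve_left (by omega)
  obtain ⟨j, hj⟩ := any1_spec (hchk.1.1.1.1.resolve_left (by omega))
  simp only [Bool.and_eq_true, Bool.not_eq_true', beq_eq_false_iff_ne] at hj
  obtain ⟨⟨hjE, hj0⟩, -⟩ := hj
  have hkey : ∀ k, inE k = true → mul k (cj i k) = 0 ∨ mul k (cj i k) = kz := by
    intro k hk
    have h := all1_spec hall k
    simp only [hk, Bool.not_true, Bool.false_or, Bool.or_eq_true, beq_iff_eq] at h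
    exact h.imp Fin.ext Fin.ext
  have hjz : X.φ j * (X.φ i * X.φ j * (X.φ i)⁻¹) = z := by
    rw [← X.map_comm, (hkey j hjE).resolve_left (fun e => hj0 (congrArg Fin.val e)), X.z_eq]
  obtain ⟨k, hk, hke⟩ := (X.norm hF hg _ (X.phi_mem_subE hjE)).1
  have e : g * z * g⁻¹ = X.φ (mul k (cj i k)) := by
    rw [X.map_comm, hke]
    calc g * z * g⁻¹ = g * (X.φ j * (X.φ i * X.φ j * (X.φ i)⁻¹)) * g⁻¹ := by rw [hjz]
      _ = g * X.φ j * g⁻¹ * ((g * X.φ i * g⁻¹) * (g * X.φ j * g⁻¹) * (g * X.φ i * g⁻¹)⁻¹) := by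
          group
      _ = _ := by rw [MTwelve.conj_fix h]
  rcases hkey k hk with e' | e'
  · exfalso
    rw [e', X.map_one, conj_eq_one_iff] at e
    have := X.orderOf_z
    rw [e, orderOf_one] at this
    omega
  · rw [e', X.z_eq] at e
    exact MTwelve.comm_of_conj_fix e

/-- The centraliser of an involution of label three or four lies in `C(z)`. -/
theorem centralizer_le {i : I} (hi : lab i = 3 ∨ lab i = 4) {g : G}
    (hg : g * X.φ i = X.φ i * g) : g * z = z * g := by
  classical
  haveI := Fact.mk Nat.prime_two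
  set L : Subgroup G := Subgroup.centralizer ({X.φ i} : Set G) with hL
  set T : Subgroup G := Subgroup.centralizer ({z} : Set G) ⊓ L with hT
  have hTc : Nat.card T = 32 := by
    rw [hT, hL, X.card_inf i]
    exact (cc_of_lab).2.1 (by omega)
  have hzL : z ∈ L := MTwelve.mem_cs.2 (X.comm_z i).symm
  -- conjugates of `z` inside `T`
  have hTz : ∀ c ∈ L, c * z * c⁻¹ ∈ T → c * z = z * c := by
    intro c hc h
    exact X.comm_z_of_inM hF hi (X.mem_of_isConj hF (isConj_iff.2 ⟨c, rfl⟩)
      (MTwelve.mem_cs.1 h.1)).1 (MTwelve.mem_cs.1 hc)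
  obtain ⟨P, hP⟩ := (show IsPGroup 2 (T.subgroupOf L) from IsPGroup.of_card (n := 5) (by
    rw [Nat.card_congr (Subgroup.subgroupOfEquivOfLe inf_le_right).toEquiv, hTc]; norm_num)
    ).exists_le_sylow
  have hPT : (P : Subgroup L) = T.subgroupOf L := by
    refine MTwelve.eq_of_normalizer_le P.isPGroup' hP fun c _ hn => ?_
    rw [Subgroup.mem_subgroupOf]
    refine Subgroup.mem_inf.2 ⟨MTwelve.mem_cs.2 (hTz c c.2 ?_), c.2⟩
    exact Subgroup.mem_subgroupOf.1 (hn ⟨z, hzL⟩ (Subgroup.mem_subgroupOf.2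
      (Subgroup.mem_inf.2 ⟨MTwelve.mem_cs.2 rfl, hzL⟩)))
  set zL : ↥L := ⟨z, hzL⟩
  have hcomm := CfsgLib.Involutions.zstar_isolated P
    (show orderOf zL = 2 by rw [Subgroup.orderOf_mk, X.orderOf_z]) (fun c hc => by
      have hc' : _ ∈ (P : Subgroup L) := hc
      rw [hPT, Subgroup.mem_subgroupOf] at hc'
      refine Subtype.ext ?_
      show (c : G) * z * (c : G)⁻¹ = z
      rw [hTz c c.2 hc', mul_inv_cancel_right])
  set O := oddCore ↥L
  haveI : O.Normal := by
    haveI := CfsgLib.Cores.pPrimeCore_characteristic 2 ↥L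
    show (Cfsg.oddCore ↥L).Normal
    rw [Cfsg.oddCore]; infer_instance
  set N := O.map L.subtype with hN
  have hodd : ∀ n ∈ N, Odd (orderOf n) := by
    rintro _ ⟨n, hn, rfl⟩
    rw [orderOf_injective L.subtype L.subtype_injective]
    exact (CfsgLib.Cores.odd_card_oddCore (G := ↥L)).of_dvd_nat (O.orderOf_dvd_natCard hn)
  have hnorm : ∀ x ∈ L, ∀ n ∈ N, x * n * x⁻¹ ∈ N := by
    rintro x hx _ ⟨n, hn, rfl⟩
    exact ⟨_, (inferInstance : O.Normal).conj_mem n hn ⟨x, hx⟩, rfl⟩
  have hNL : N ≤ L := Subgroup.map_subtype_le _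
  have hfix : ∀ x ∈ X.subE, x ≠ 1 → ∀ n ∈ N, x * n = n * x → n = 1 := by
    intro x hx hx1 n hn e
    have hnz := X.comm_z_of_inM hF hi (X.inM_of_comm_mem hF hx hx1 e.symm)
      (MTwelve.mem_cs.1 (hNL hn))
    exact MTwelve.eq_one_of_odd (n := 5) (P := T) (by rw [hTc]; norm_num)
      (Subgroup.mem_inf.2 ⟨MTwelve.mem_cs.2 hnz, hNL hn⟩) (hodd n hn)
  have hchk := all1_spec affine_check i
  simp only [Bool.and_eq_true, Bool.or_eq_true, Bool.not_eq_true', Bool.or_eq_false_iff,
    beq_eq_false_iff_ne] at hchk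
  obtain ⟨-, hany⟩ := hchk.1.1.2.resolve_left (by omega)
  obtain ⟨j, hj⟩ := any1_spec hany
  simp only [Bool.and_eq_true, beq_iff_eq] at hj
  obtain ⟨⟨hjE, hj2⟩, hjc⟩ := hj
  set e := X.φ j with he
  have heE : e ∈ X.subE := X.phi_mem_subE hjE
  have heL : e ∈ L := MTwelve.mem_cs.2 ((X.com_iff _ _).1 hjc)
  have hz1 : z ≠ 1 := fun h => by
    have := X.orderOf_z
    rw [h, orderOf_one] at this
    omega
  have he1 : e ≠ 1 := (X.lab_ne_zero.1 (show lab j ≠ 0 by omega)).1
  have hez : z * e ≠ 1 := by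
    intro h
    have h' : z = e := by
      rw [← mul_one z, ← X.subE_sq heE, ← mul_assoc, h, one_mul]
    have : j = kz := X.inj (h'.symm.trans X.z_eq.symm)
    rw [this, lab_rep.1] at hj2
    omega
  have hiz := MTwelve.inverts N (X.subE_sq X.z_mem_subE) (hnorm z hzL)
    (hfix z X.z_mem_subE hz1)
  have hie := MTwelve.inverts N (X.subE_sq heE) (hnorm e heL) (hfix e heE he1)
  have hN1 : ∀ n ∈ N, n = 1 := fun n hn =>
    hfix (z * e) (X.subE.mul_mem X.z_mem_subE heE) hez n hn (MTwelve.comm_of_conj_fix (by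
      rw [MTwelve.conj_step, hie n hn, hiz _ (N.inv_mem hn), inv_inv]))
  have hgL : g ∈ L := MTwelve.mem_cs.2 hg
  have h1 : (z * g * z⁻¹ * g⁻¹ : G) = 1 :=
    hN1 _ ⟨zL * ⟨g, hgL⟩ * zL⁻¹ * ⟨g, hgL⟩⁻¹, hcomm ⟨g, hgL⟩, rfl⟩
  calc g * z = (z * g * z⁻¹ * g⁻¹)⁻¹ * (z * g) := by group
    _ = z * g := by rw [h1, inv_one, one_mul]

/-- Centralisers of involutions of `N(E)` normalise `E`. -/
theorem inM_of_comm {w g : G} (hw : orderOf w = 2) (hM : X.InM w) (h : g * w = w * g) :
    X.InM g := by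
  rcases X.involution_cases hF hw hM with hE | ⟨m, i, hm, hi, e⟩
  · exact X.inM_of_comm_mem hF hE (fun e => by rw [e, orderOf_one] at hw; omega) h
  · have hc := X.centralizer_le hF hi (g := m * g * m⁻¹) (by rw [← e]; exact comm_conj m h)
    have hg' := X.inM_of_comm_mem hF X.z_mem_subE (fun e => by
      have := X.orderOf_z
      rw [e, orderOf_one] at this
      omega) hc
    have := X.inM_mul hF (X.inM_mul hF (X.inM_inv hF hm) hg') hm
    rwa [show m⁻¹ * (m * g * m⁻¹) * m = g by group] at this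

/-- Every conjugate of `z` lies in `E`. -/
theorem class_le {v : G} (hc : IsConj z v) : v ∈ X.subE := by
  obtain ⟨c, hcv⟩ := isConj_iff.1 hc
  have hv : orderOf v = 2 := by rw [← hcv, orderOf_conj, X.orderOf_z]
  set w := X.φ ka2 with hw
  have hwl : lab ka2 ≠ 0 := by rw [lab_rep.2.2.1]; decide
  have hw2 : orderOf w = 2 := X.orderOf_phi hwl
  have hnc : ¬ IsConj v w := fun h => by
    rcases (hF ka2 hwl).1.1 (hc.trans h) with e | e <;> rw [lab_rep.2.2.1] at e <;> omega
  obtain ⟨t, ht, htv, htw, -⟩ := CfsgLib.Involutions.exists_commuting_involution hv hw2 hnc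
  have htM : X.InM t := X.inM_of_comm hF hw2 (X.inM_phi hF ka2) htw
  have hvM : X.InM v := X.inM_of_comm hF ht htM htv.symm
  obtain ⟨u, hu, hu1, hvu⟩ := X.exists_fixed hF (by rw [← pow_two, ← hv, pow_orderOf_eq_one]) hvM
  obtain ⟨m, hm, hmz⟩ := X.exists_inM hF hu hu1
  have h := (X.mem_of_isConj hF (v := m⁻¹ * v * m)
    (hc.trans (isConj_iff.2 ⟨m⁻¹, by rw [inv_inv]⟩)) (by
      have h := comm_conj m⁻¹ hvu
      rwa [inv_inv, show m⁻¹ * u * m = z by rw [← hmz]; group] at h)).1
  have h' := (X.norm hF hm _ h).1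
  rwa [show m * (m⁻¹ * v * m) * m⁻¹ = v by group] at h'

theorem subE_normal : X.subE.Normal := ⟨fun e he g =>
  (X.norm hF (show X.InM g from X.class_le hF (isConj_iff.2 ⟨g, rfl⟩)) e he).1⟩

theorem card_G : Nat.card G = 1344 := by
  have h := MTwelve.card_orbit_conj (⊤ : Subgroup G) z
  rw [top_inf_eq, X.card_C, Subgroup.card_top] at h
  have h7 : Nat.card {v : G // ∃ c ∈ (⊤ : Subgroup G), c * z * c⁻¹ = v} = 7 := by
    classical
    haveI : Fintype X.subE := Fintype.ofFinite _
    have h1 : Nat.card {e : X.subE // e ≠ 1} = 7 := by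
      rw [Nat.card_eq_fintype_card, Fintype.card_subtype_compl, ← Nat.card_eq_fintype_card,
        X.card_subE]
      simp
    rw [← h1]
    refine Nat.card_eq_of_bijective (fun v => ⟨⟨v.1, ?_⟩, ?_⟩) ⟨?_, ?_⟩
    · obtain ⟨c, -, hc⟩ := v.2
      exact X.class_le hF (isConj_iff.2 ⟨c, hc⟩)
    · intro e
      obtain ⟨c, -, hc⟩ := v.2
      have e' : v.1 = 1 := congrArg Subtype.val e
      rw [e', conj_eq_one_iff] at hc
      have := X.orderOf_z
      rw [hc, orderOf_one] at this
      omega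
    · intro a b e
      exact Subtype.ext (congrArg (fun x : {e : X.subE // e ≠ 1} => ((x.1 : X.subE) : G)) e :)
    · rintro ⟨⟨e, he⟩, he1⟩
      obtain ⟨c, hc⟩ := isConj_iff.1 (X.isConj_of_mem hF he (fun h => he1 (Subtype.ext h)))
      exact ⟨⟨e, c, Subgroup.mem_top c, hc⟩, rfl⟩
  rw [h, h7]

theorem centralizer_subE : Subgroup.centralizer (X.subE : Set G) = X.subE := by
  refine le_antisymm (fun g hg => ?_) fun g hg => Subgroup.mem_centralizer_iff.2 fun e he =>
    X.subE_comm he hg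
  obtain ⟨k, rfl⟩ := X.surj g ((Subgroup.mem_centralizer_iff.1 hg z X.z_mem_subE).symm)
  have hchk := all1_spec affine_check k
  simp only [Bool.and_eq_true, Bool.or_eq_true] at hchk
  rcases hchk.1.2 with h | h
  · exact X.phi_mem_subE h
  · obtain ⟨j, hj⟩ := any1_spec h
    simp only [Bool.and_eq_true, Bool.not_eq_true'] at hj
    have := (X.com_iff k j).2 (Subgroup.mem_centralizer_iff.1 hg _ (X.phi_mem_subE hj.1)).symm
    rw [hj.2] at this
    exact absurd this Bool.false_ne_true

end Ctr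

/-- In the first fusion pattern `G` is an extension of `2³` by `PSL₃(2)`. -/
theorem affine {G : Type u} [Group G] [Finite G] {z : G} (X : Ctr z) (hF : Fus3 X) :
    ∃ (N : Subgroup G) (_hN : N.Normal), IsMulCommutative N ∧ (∀ n ∈ N, n ^ 2 = 1) ∧
      Nat.card N = 8 ∧
      Nonempty (G ⧸ N ≃* Matrix.ProjectiveSpecialLinearGroup (Fin 3) (ZMod 2)) := by
  haveI := X.subE_normal hF
  have hc : IsMulCommutative X.subE := ⟨⟨fun a b => Subtype.ext (X.subE_comm a.2 b.2)⟩⟩
  have he : ∀ n ∈ X.subE, n ^ 2 = 1 := fun n hn => by rw [pow_two]; exact X.subE_sq hn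
  exact ⟨X.subE, inferInstance, hc, he, X.card_subE,
    quotient_psl X.subE hc he X.card_subE (X.centralizer_subE hF) (X.card_G hF)⟩

end CfsgLib.InvChar.AEight
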