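import Cfsg.Agent.Lib.InvChar.AEight.Transfer
import Cfsg.Agent.S3277
import Mathlib.GroupTheory.SpecificGroups.Alternating

/-!
A group with a central involution and Sylow 2-subgroups of order 32, with two subgroups of index two
cutting it down to a four-group which is self-centralising, has order 96 or 480.
-/

set_option autoImplicit false
set_option linter.style.haveILetI false

namespace CfsgLib.InvChar.AEight

/-- The order of the centraliser of the second involution, abstractly. -/
theorem card_of_two_kernels {H : Type*} [Group H] [Finite H] {T W V K1 K2 : Subgroup H} {w u v : H}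
    (hTc : Nat.card T = 32) (hTi : T.index % 2 = 1) (hWc : Nat.card W = 8) (hVc : Nat.card V = 4)
    (h1 : K1.index = 2) (h2 : K2.index = 2) (hne : K1 ≠ K2) (hW : T ⊓ (K1 ⊓ K2) = W)
    (hVW : V ≤ W) (hVsq : ∀ g ∈ V, g * g = 1) (hV : ∀ g ∈ V, g = 1 ∨ g = u ∨ g = v ∨ g = u * v)
    (hw : orderOf w = 2) (hwW : w ∈ W) (hwc : ∀ h, h * w * h⁻¹ = w) (hwV : w ∉ V)
    (hu : u ∈ V) (hv : v ∈ V) (hu1 : u ≠ 1) (hv1 : v ≠ 1) (huv : u ≠ v)
    (hcent : ∀ g, g * u = u * g → g ∈ T) (hTu : ∀ t ∈ T, t * u = u * t) (hconv : IsConj u v) (hconuv : IsConj u (u * v))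
    (hcl : ∀ y ∈ V, y ≠ 1 → ∀ h, h * y * h⁻¹ ∈ W → h * y * h⁻¹ ∈ V) :
    Nat.card H = 96 ∨ Nat.card H = 480 := by
  classical
  haveI := Fact.mk Nat.prime_two
  set m := T.index with hm
  have hH : Nat.card H = 32 * m := by rw [← T.card_mul_index, hTc]
  haveI := Subgroup.normal_of_index_eq_two h1
  haveI := Subgroup.normal_of_index_eq_two h2
  set K12 : Subgroup H := K1 ⊓ K2 with hK12
  have hWK : W ≤ K12 := hW ▸ inf_le_right
  -- the intersection of the two kernels has index four
  have hK12i : K12.index = 4 := by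
    have hle : K12.index ≤ 4 := (Subgroup.index_inf_le).trans_eq (by rw [h1, h2])
    have hd : 2 ∣ K12.index := h1 ▸ Subgroup.index_dvd_of_le inf_le_left
    have h0 : K12.index ≠ 0 := Subgroup.index_ne_zero_of_finite
    have h22 : K12.index ≠ 2 := fun e => by
      refine hne ?_
      have e1 : K12 = K1 := Subgroup.eq_of_le_of_card_ge inf_le_left (by
        have := K12.card_mul_index; have := K1.card_mul_index
        rw [e] at *; rw [h1] at *; omega)
      have e2 : K12 = K2 := Subgroup.eq_of_le_of_card_ge inf_le_right (by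
        have := K12.card_mul_index; have := K2.card_mul_index
        rw [e] at *; rw [h2] at *; omega)
      exact e1.symm.trans e2
    omega
  have hK12c : Nat.card K12 = 8 * m := by
    have := K12.card_mul_index
    rw [hK12i, hH] at this
    omega
  haveI : K12.Normal := inferInstanceAs (K1 ⊓ K2).Normal
  -- the transfer inside it
  have hWi : (W.subgroupOf K12).index = m := by
    have h := (W.subgroupOf K12).card_mul_index
    rw [Nat.card_congr (Subgroup.subgroupOfEquivOfLe hWK).toEquiv, hWc, hK12c] at h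
    omega
  obtain ⟨K', hK', hwK, hall⟩ := exists_index_two_avoiding (T := W.subgroupOf K12)
    (M := V.subgroupOf K12) (x := (⟨w, hWK hwW⟩ : ↥K12)) (by rw [hWi]; exact hTi)
    (fun g hg => hVW hg) (by
      rw [Nat.card_congr (Subgroup.subgroupOfEquivOfLe (hVW.trans hWK)).toEquiv,
        Nat.card_congr (Subgroup.subgroupOfEquivOfLe hWK).toEquiv, hVc, hWc])
    (by rw [Subgroup.orderOf_mk]; exact hw)
    (fun h hh => hwV (by have := Subgroup.mem_subgroupOf.1 hh; simpa [hwc] using this))
  set K : Subgroup H := K'.map K12.subtype with hKdef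
  have hKK : K ≤ K12 := Subgroup.map_subtype_le _
  have hKc : Nat.card K = 4 * m := by
    rw [hKdef, Subgroup.card_map_of_injective K12.subtype_injective]
    have := K'.card_mul_index
    rw [hK', hK12c] at this
    omega
  have hmem : ∀ {g : H} (hg : g ∈ K12), g ∈ K ↔ (⟨g, hg⟩ : ↥K12) ∈ K' := fun {g} hg =>
    ⟨fun ⟨y, hy, e⟩ => by rwa [show (⟨g, hg⟩ : ↥K12) = y from Subtype.ext e.symm],
      fun h => ⟨_, h, rfl⟩⟩
  have hVK : V ≤ K := fun g hg => by
    by_cases h1' : g = 1
    · rw [h1']; exact K.one_mem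
    refine (hmem (hWK (hVW hg))).2 (hall _ ?_ fun h hh => ?_)
    · rw [Subgroup.orderOf_mk]
      exact orderOf_eq_prime (by rw [pow_two]; exact hVsq g hg) h1'
    · exact Subgroup.mem_subgroupOf.2 (hcl g hg h1' (h : H) (Subgroup.mem_subgroupOf.1 hh))
  -- the Sylow subgroup of `K`
  have hmodd : ¬ 2 ∣ m := by omega
  have hsyl : ∀ P : Subgroup H, IsPGroup 2 P → V ≤ P → P ≤ K → P = V := by
    intro P hP hVP hPK
    obtain ⟨n, hn⟩ := IsPGroup.iff_card.1 hP
    have hd := Subgroup.card_dvd_of_le hPK
    rw [hn, hKc] at hd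
    refine (Subgroup.eq_of_le_of_card_ge hVP ?_).symm
    rw [hn, hVc]
    by_contra hlt
    have h3 : 3 ≤ n := by
      by_contra h'
      exact hlt (le_of_le_of_eq (Nat.pow_le_pow_right (by norm_num) (show n ≤ 2 by omega)) rfl)
    have := (pow_dvd_pow 2 h3).trans hd
    omega
  have hTp : IsPGroup 2 T := IsPGroup.of_card (n := 5) (by rw [hTc]; norm_num)
  have hVT : V ≤ T := hVW.trans (hW ▸ inf_le_left)
  have hTK : T ⊓ K = V := hsyl _ (hTp.to_le inf_le_left) (le_inf hVT hVK) inf_le_right
  set uK : ↥K := ⟨u, hVK hu⟩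
  set C := Subgroup.centralizer ({uK} : Set ↥K) with hC
  have hCV : C = V.subgroupOf K := by
    ext c
    rw [hC, Subgroup.mem_centralizer_singleton_iff, Subgroup.mem_subgroupOf]
    constructor
    · intro h
      rw [← hTK]
      exact ⟨hcent c (congrArg Subtype.val h), c.2⟩
    · intro h
      refine Subtype.ext ?_
      show (c : H) * u = u * c
      have e1 := hVsq _ (V.mul_mem h hu)
      have e2 : (c : H)⁻¹ = c := inv_eq_of_mul_eq_one_right (hVsq _ h)
      have e3 : u⁻¹ = u := inv_eq_of_mul_eq_one_right (hVsq _ hu)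
      rw [← inv_eq_of_mul_eq_one_right e1, mul_inv_rev, e2, e3]
  have hC4 : Nat.card C = 4 := by
    rw [hCV, Nat.card_congr (Subgroup.subgroupOfEquivOfLe hVK).toEquiv, hVc]
  -- the class of `u` in `K` is its class in `H`
  have hclass : ∀ y, IsConj u y → ∃ k : ↥K, (k : H) * u * (k : H)⁻¹ = y := by
    let cH : H ⧸ Subgroup.centralizer ({u} : Set H) → H := Quotient.lift (fun g => g * u * g⁻¹) (by
      intro a b hab
      have h := Subgroup.mem_centralizer_singleton_iff.1 (QuotientGroup.leftRel_apply.1 hab)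
      calc a * u * a⁻¹ = a * (u * (a⁻¹ * b)) * b⁻¹ := by group
        _ = a * (a⁻¹ * b * u) * b⁻¹ := by rw [h]
        _ = b * u * b⁻¹ := by group)
    let f : ↥K ⧸ C → H ⧸ Subgroup.centralizer ({u} : Set H) := Quotient.map' (fun k => (k : H))
      fun a b h => by
        rw [QuotientGroup.leftRel_apply, hCV, Subgroup.mem_subgroupOf] at h
        rw [QuotientGroup.leftRel_apply, Subgroup.mem_centralizer_singleton_iff]
        have e1 := hVsq _ (V.mul_mem h hu)
        have e2 := inv_eq_of_mul_eq_one_right (hVsq _ h)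
        have e3 : u⁻¹ = u := inv_eq_of_mul_eq_one_right (hVsq _ hu)
        show ((a⁻¹ * b : ↥K) : H) * u = u * ((a⁻¹ * b : ↥K) : H)
        rw [← inv_eq_of_mul_eq_one_right e1, mul_inv_rev, e2, e3]
    have hinj : Function.Injective f := by
      intro q r
      refine QuotientGroup.induction_on q fun a => QuotientGroup.induction_on r fun b h => ?_
      have h' := Subgroup.mem_centralizer_singleton_iff.1 (QuotientGroup.eq.1 h)
      refine QuotientGroup.eq.2 ?_
      rw [hC, Subgroup.mem_centralizer_singleton_iff]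
      exact Subtype.ext h'
    have hcu : Subgroup.centralizer ({u} : Set H) = T := le_antisymm
      (fun g hg => hcent g (Subgroup.mem_centralizer_singleton_iff.1 hg))
      (fun t ht => Subgroup.mem_centralizer_singleton_iff.2 (hTu t ht))
    have hbig : Nat.card (↥K ⧸ C) = m := by
      have h := C.card_mul_index
      rw [hC4, hKc] at h
      rw [← Subgroup.index]
      omega
    have hsurj : Function.Surjective f := by
      refine (hinj.bijective_of_nat_card_le ?_).2
      rw [hbig, ← Subgroup.index, hcu]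
    intro y hy
    obtain ⟨g, hg⟩ := isConj_iff.1 hy
    obtain ⟨q, hq⟩ := hsurj (QuotientGroup.mk g)
    obtain ⟨k, rfl⟩ := QuotientGroup.mk_surjective q
    refine ⟨k, ?_⟩
    rw [← hg]
    exact congrArg cH hq
  obtain ⟨kv, hkv⟩ := hclass v hconv
  obtain ⟨kuv, hkuv⟩ := hclass (u * v) hconuv
  have hm3 : 3 ≤ m := by
    by_contra h
    have hm1 : m = 1 := by omega
    have hTtop : T = ⊤ := Subgroup.index_eq_one.1 hm1
    refine huv ?_
    rw [← hkv, hTu (kv : H) (hTtop ▸ Subgroup.mem_top _), mul_inv_cancel_right]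
  by_cases horb : ∀ k : ↥K, (k : H) * u * (k : H)⁻¹ ∈ V
  · left
    have h3 : m ≤ 3 := by
      have hi : C.index = m := by
        have h := C.card_mul_index
        rw [hC4, hKc] at h
        omega
      rw [← hi]
      let f : ↥K ⧸ C → {y : H // y ∈ ({u, v, u * v} : Finset H)} := Quotient.lift
        (fun k : ↥K => ⟨(k : H) * u * (k : H)⁻¹, by
          simp only [Finset.mem_insert, Finset.mem_singleton]
          rcases hV _ (horb k) with e | e | e | e
          · exact absurd (conj_eq_one_iff.1 e) hu1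
          · exact Or.inl e
          · exact Or.inr (Or.inl e)
          · exact Or.inr (Or.inr e)⟩)
        (by
          intro a b hab
          refine Subtype.ext ?_
          have hab' : a⁻¹ * b ∈ C := QuotientGroup.leftRel_apply.1 hab
          have h : ((a : H)⁻¹ * b) * u = u * ((a : H)⁻¹ * b) :=
            congrArg Subtype.val (Subgroup.mem_centralizer_singleton_iff.1 hab')
          show (a : H) * u * (a : H)⁻¹ = (b : H) * u * (b : H)⁻¹
          calc (a : H) * u * (a : H)⁻¹ = (a : H) * (u * ((a : H)⁻¹ * b)) * (b : H)⁻¹ := by group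
            _ = (a : H) * ((a : H)⁻¹ * b * u) * (b : H)⁻¹ := by rw [h]
            _ = (b : H) * u * (b : H)⁻¹ := by group)
      refine (Nat.card_le_card_of_injective f ?_).trans ?_
      · intro q r
        refine QuotientGroup.induction_on q fun a => QuotientGroup.induction_on r fun b h => ?_
        have h' : (a : H) * u * (a : H)⁻¹ = (b : H) * u * (b : H)⁻¹ := congrArg Subtype.val h
        refine QuotientGroup.eq.2 (Subgroup.mem_centralizer_singleton_iff.2 (Subtype.ext ?_))
        show (a : H)⁻¹ * b * u = u * ((a : H)⁻¹ * b)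
        calc (a : H)⁻¹ * b * u = (a : H)⁻¹ * ((b : H) * u * (b : H)⁻¹) * b := by group
          _ = (a : H)⁻¹ * ((a : H) * u * (a : H)⁻¹) * b := by rw [h']
          _ = u * ((a : H)⁻¹ * b) := by group
      · rw [Nat.card_eq_finsetCard]
        exact Finset.card_le_three
    omega
  · right
    have hsq : ∀ c ∈ C, c ^ 2 = 1 := fun c hc => by
      rw [hCV, Subgroup.mem_subgroupOf] at hc
      exact Subtype.ext (by rw [SubmonoidClass.coe_pow, pow_two]; exact hVsq _ hc)
    have hu2 : orderOf uK = 2 := by
      rw [Subgroup.orderOf_mk]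
      exact orderOf_eq_prime (by rw [pow_two]; exact hVsq u hu) hu1
    have key : ∀ (h1 : ¬ Cfsg.HasNormalPComplement 2 ↥K)
        (h2 : ∀ E : Subgroup ↥K, E.Normal → Cfsg.IsElementaryAbelian 2 E → Nat.card ↥E ≠ 2 ∧ Nat.card ↥E ≠ 4),
        Nat.card H = 480 := fun h1' h2' => by
      obtain ⟨e⟩ := Cfsg.Agent.S3277.result uK hu2 hC4 hsq h1' h2'
      have h60 : Nat.card ↥K = 60 := by
        rw [Nat.card_congr e.toEquiv, nat_card_alternatingGroup, Nat.card_eq_fintype_card,
          Fintype.card_fin]
        decide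
      omega
    refine key ?_ ?_
    · rintro ⟨S, N, hN, hcomp⟩
      haveI := hN
      have hNodd : ¬ 2 ∣ Nat.card N := hcomp.index_eq_card ▸ S.not_dvd_index
      have hSc : Nat.card (↥K ⧸ N) = 4 := by
        have h := N.card_mul_index
        have hS : Nat.card (S : Subgroup ↥K) = 4 := by
          rw [S.card_eq_multiplicity, hKc, Nat.factorization_mul (by norm_num) (by omega),
            Finsupp.add_apply, show (4 : ℕ) = 2 ^ 2 from rfl, Nat.prime_two.factorization_pow,
            Finsupp.single_eq_same, Nat.factorization_eq_zero_of_not_dvd hmodd]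
        rw [← Subgroup.index, hcomp.symm.index_eq_card, hS]
      let π : ↥K →* ↥K ⧸ N := QuotientGroup.mk' N
      have hcomm : ∀ x y : ↥K ⧸ N, x * y = y * x := fun x y =>
        (IsPGroup.isMulCommutative_of_card_eq_prime_sq (p := 2) (by rw [hSc]; rfl)).is_comm.comm x y
      have hmem : (⟨u * v, hVK (V.mul_mem hu hv)⟩ : ↥K) ∈ N := by
        have hz : (⟨u * v, hVK (V.mul_mem hu hv)⟩ : ↥K) = uK * (kv * uK * kv⁻¹) := Subtype.ext (by
          show u * v = u * ((kv : H) * u * (kv : H)⁻¹)
          rw [hkv])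
        rw [hz, ← QuotientGroup.eq_one_iff]
        show π (uK * (kv * uK * kv⁻¹)) = 1
        rw [map_mul, map_mul, map_mul, map_inv, hcomm (π kv) (π uK), mul_inv_cancel_right, ← map_mul,
          show uK * uK = 1 from Subtype.ext (hVsq u hu), map_one]
      refine hNodd ?_
      have ho : orderOf (⟨u * v, hVK (V.mul_mem hu hv)⟩ : ↥K) = 2 := by
        rw [Subgroup.orderOf_mk]
        refine orderOf_eq_prime (by rw [pow_two]; exact hVsq _ (V.mul_mem hu hv)) fun e => huv ?_
        calc u = u * v * v⁻¹ := by group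
          _ = v := by rw [e, one_mul]; exact inv_eq_of_mul_eq_one_right (hVsq v hv)
      exact ho ▸ Subgroup.orderOf_dvd_natCard N hmem
    · intro D hDn hDe
      haveI := hDn
      have hDp : IsPGroup 2 ↥D := fun x => ⟨1, Subtype.ext (by
        rw [SubmonoidClass.coe_pow, pow_one]; exact hDe.2 x x.2)⟩
      have hCp : IsPGroup 2 ↥C := IsPGroup.of_card (n := 2) (by rw [hC4]; norm_num)
      have hDV : ∀ d ∈ D, ((d : ↥K) : H) ∈ V := by
        intro d hd
        have hp : IsPGroup 2 ↥((D ⊔ C).map K.subtype) := (hDp.to_sup_of_normal_left hCp).map _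
        rw [← hsyl _ hp (fun g hg => ⟨⟨g, hVK hg⟩, Subgroup.mem_sup_right (by
          rw [hCV]; exact Subgroup.mem_subgroupOf.2 hg), rfl⟩) (Subgroup.map_subtype_le _)]
        exact ⟨d, Subgroup.mem_sup_left hd, rfl⟩
      constructor
      · intro h2
        obtain ⟨d, hd1, huniq⟩ := (Nat.card_eq_two_iff' (1 : ↥D)).1 h2
        have hfix : ∀ k : ↥K, (k : H) * ((d : ↥K) : H) * (k : H)⁻¹ = ((d : ↥K) : H) := by
          intro k
          have := huniq ⟨_, hDn.conj_mem (d : ↥K) d.2 k⟩ fun e => hd1 (Subtype.ext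
            (conj_eq_one_iff.1 (congrArg Subtype.val e)))
          exact congrArg (fun x : ↥D => ((x : ↥K) : H)) this
        rcases hV _ (hDV _ d.2) with e | e | e | e
        · exact hd1 (Subtype.ext (Subtype.ext e))
        · exact huv (by rw [← hkv, ← e, hfix])
        · refine huv ?_
          have h := hfix kv⁻¹
          rw [e, InvMemClass.coe_inv, inv_inv] at h
          calc u = (kv : H)⁻¹ * ((kv : H) * u * (kv : H)⁻¹) * kv := by group
            _ = v := by rw [hkv]; exact h
        · refine hv1 ?_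
          have h := hfix kuv⁻¹
          rw [e, InvMemClass.coe_inv, inv_inv] at h
          have h' : u = u * v := by
            calc u = (kuv : H)⁻¹ * ((kuv : H) * u * (kuv : H)⁻¹) * kuv := by group
              _ = u * v := by rw [hkuv]; exact h
          exact left_eq_mul.1 h'
      · intro h4
        have hle : D ≤ C := fun d hd => by
          rw [hCV]; exact Subgroup.mem_subgroupOf.2 (hDV d hd)
        have hDC : D = C := Subgroup.eq_of_le_of_card_ge hle (by rw [h4, hC4])
        refine horb fun k => hDV _ (hDn.conj_mem uK (hDC ▸ ?_) k)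
        exact Subgroup.mem_centralizer_singleton_iff.2 rfl

end CfsgLib.InvChar.AEight
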