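import Cfsg.Agent.Lib.InvChar.AEight.CentWChar
import Cfsg.Agent.Lib.InvChar.AEight.CentWCore

/-!
The order of the centraliser of the second involution, from two subgroups of index two.
-/

set_option autoImplicit false
set_option maxRecDepth 100000
set_option linter.unusedSectionVars false
set_option linter.style.haveILetI false

namespace CfsgLib.InvChar.AEight

/-- Membership in the four-group of the second class. -/
def inV4 (i : I) : Bool := i.val == 0 || i.val == 85 || i.val == 126 || i.val == 157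

/-- Membership in the group of order eight it generates with `ka2`. -/
def inW8 (i : I) : Bool :=
  inV4 i || i.val == 6 || i.val == 91 || i.val == 120 || i.val == 163

theorem vw_check : (all1 fun i => all1 fun j =>
    (!(inV4 i && inV4 j) || inV4 (mul i j)) && (!(inW8 i && inW8 j) || inW8 (mul i j))) = true ∧
    cnt inV4 = 4 ∧ cnt inW8 = 8 ∧
    (all1 fun i => (!inV4 i || inW8 i) && (!inW8 i || com i ka2) &&
      (!inV4 i || ((mul i i).val == 0)) &&
      (!(inV4 i && !(i.val == 0)) || (lab i == 3 || lab i == 5)) &&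
      (!(inW8 i && !inV4 i) || (i.val == 120 || lab i == 1 || lab i == 6)) &&
      (!(com i ka2) || com i (fin 126))) = true ∧
    ka2 = fin 120 ∧ inW8 (fin 120) = true ∧ inV4 (fin 120) = false ∧
    (mul (fin 126) (fin 85) = fin 157 ∧ mul (fin 120) kz = fin 126 ∧ lab (fin 126) = 3) := by
  decide +kernel

universe u

variable {G : Type u} [Group G] [Finite G] {z : G}

namespace Ctr

variable (X : Ctr z)
include X

theorem card_centW_inf :
    Nat.card ↥(Subgroup.centralizer ({z} : Set G) ⊓ Subgroup.centralizer ({X.φ ka2} : Set G)) = 32 := by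
  rw [X.card_inf ka2]
  exact (cc_of_lab (i := ka2)).2.1 (Or.inr (Or.inl lab_rep.2.2.1))

/-- The order of `C(φ ka2)` from two subgroups of index two meeting `C(z)` in a group of order eight,
and the fusion of the four-group. -/
theorem card_centW_of_kernels (F : Fus9 X)
    (hodd : ((Subgroup.centralizer ({z} : Set G)).subgroupOf
      (Subgroup.centralizer ({X.φ ka2} : Set G))).index % 2 = 1)
    (hcent : ∀ g, g * X.φ ka2 = X.φ ka2 * g → g * X.φ (fin 126) = X.φ (fin 126) * g → g * z = z * g)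
    (K1 K2 : Subgroup ↥(Subgroup.centralizer ({X.φ ka2} : Set G))) (h1 : K1.index = 2) (h2 : K2.index = 2)
    (hne : K1 ≠ K2)
    (hW : ∀ i (h : X.φ i ∈ Subgroup.centralizer ({X.φ ka2} : Set G)),
      ((⟨X.φ i, h⟩ : ↥(Subgroup.centralizer ({X.φ ka2} : Set G))) ∈ K1 ∧
        (⟨X.φ i, h⟩ : ↥(Subgroup.centralizer ({X.φ ka2} : Set G))) ∈ K2) ↔ inW8 i = true)
    (hv : ∃ c, c * X.φ ka2 = X.φ ka2 * c ∧ c * X.φ (fin 126) * c⁻¹ = X.φ (fin 85))
    (huv : ∃ c, c * X.φ ka2 = X.φ ka2 * c ∧ c * X.φ (fin 126) * c⁻¹ = X.φ (fin 157)) :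
    Nat.card ↥(Subgroup.centralizer ({X.φ ka2} : Set G)) = 96 ∨
      Nat.card ↥(Subgroup.centralizer ({X.φ ka2} : Set G)) = 480 := by
  classical
  obtain ⟨hclo, hV4, hW8, hfacts, hk, hwW, hwV, huvm, hwz, -⟩ := vw_check
  have hcl : ∀ i j, (inV4 i = true → inV4 j = true → inV4 (mul i j) = true) ∧
      (inW8 i = true → inW8 j = true → inW8 (mul i j) = true) := fun i j => by
    have h := all1_spec (all1_spec hclo i) j
    simp only [Bool.and_eq_true, Bool.or_eq_true, Bool.not_eq_true', Bool.and_eq_false_iff] at h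
    exact ⟨fun a b => h.1.resolve_left (by simp [a, b]), fun a b => h.2.resolve_left (by simp [a, b])⟩
  have hi : ∀ i, (inV4 i = true → inW8 i = true) ∧ (inW8 i = true → com i ka2 = true) ∧
      (inV4 i = true → X.φ i * X.φ i = 1) ∧
      (inV4 i = true → i.val ≠ 0 → lab i = 3 ∨ lab i = 5) ∧
      (inW8 i = true → inV4 i = false → i = fin 120 ∨ lab i = 1 ∨ lab i = 6) ∧
      (com i ka2 = true → com i (fin 126) = true) := fun i => by
    have h := all1_spec hfacts i
    simp only [Bool.and_eq_true, Bool.or_eq_true, Bool.not_eq_true', Bool.and_eq_false_iff, beq_iff_eq,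
      beq_eq_false_iff_ne, Bool.not_eq_false'] at h
    obtain ⟨⟨⟨⟨⟨a1, a2⟩, a3⟩, a4⟩, a5⟩, a6⟩ := h
    refine ⟨fun a => a1.resolve_left (by simp [a]), fun a => a2.resolve_left (by simp [a]),
      fun a => ?_, fun a b => ?_, fun a b => ?_, fun a => a6.resolve_left (by simp [a])⟩
    · rw [← X.map_mul, show mul i i = 0 from Fin.ext (a3.resolve_left (by simp [a])), X.map_one]
    · exact a4.resolve_left (by simp [a, b])
    · rcases a5.resolve_left (by simp [a, b]) with (e | e) | e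
      · exact Or.inl (Fin.ext e)
      · exact Or.inr (Or.inl e)
      · exact Or.inr (Or.inr e)
  have hmemL : ∀ i, com i ka2 = true → X.φ i ∈ X.L := fun i h =>
    Subgroup.mem_centralizer_singleton_iff.2 ((X.com_iff i ka2).1 h)
  let el : ∀ i, com i ka2 = true → ↥X.L := fun i h => ⟨X.φ i, hmemL i h⟩
  let VG : Subgroup G := X.sub inV4 rfl fun i j => (hcl i j).1
  let WG : Subgroup G := X.sub inW8 rfl fun i j => (hcl i j).2
  have hWL : WG ≤ X.L := by
    rintro _ ⟨i, h, rfl⟩
    exact hmemL i ((hi i).2.1 h)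
  have hVW : VG ≤ WG := by
    rintro _ ⟨i, h, rfl⟩
    exact ⟨i, (hi i).1 h, rfl⟩
  let T : Subgroup ↥X.L := (Subgroup.centralizer ({z} : Set G)).subgroupOf X.L
  have hwIn : com ka2 ka2 = true := (X.com_iff ka2 ka2).2 rfl
  have h126 : inV4 (fin 126) = true := by decide
  have h85 : inV4 (fin 85) = true := by decide
  refine card_of_two_kernels (T := T) (W := WG.subgroupOf X.L) (V := VG.subgroupOf X.L) (K1 := K1) (K2 := K2)
    (w := el ka2 hwIn) (u := el (fin 126) ((hi _).2.1 ((hi _).1 h126)))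
    (v := el (fin 85) ((hi _).2.1 ((hi _).1 h85))) ?_ hodd ?_ ?_ h1 h2 hne ?_ (fun g hg => hVW hg) ?_ ?_ ?_ ?_ ?_ ?_
    ⟨_, h126, rfl⟩ ⟨_, h85, rfl⟩ ?_ ?_ ?_ ?_ ?_ ?_ ?_ ?_
  · show Nat.card ↥((Subgroup.centralizer ({z} : Set G)).subgroupOf X.L) = 32
    rw [← Subgroup.inf_subgroupOf_right, Nat.card_congr (Subgroup.subgroupOfEquivOfLe inf_le_right).toEquiv]
    exact X.card_centW_inf
  · rw [Nat.card_congr (Subgroup.subgroupOfEquivOfLe hWL).toEquiv, X.card_image inW8 WG fun _ => Iff.rfl]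
    exact hW8
  · rw [Nat.card_congr (Subgroup.subgroupOfEquivOfLe (hVW.trans hWL)).toEquiv,
      X.card_image inV4 VG fun _ => Iff.rfl]
    exact hV4
  · ext g
    simp only [T, Subgroup.mem_inf, Subgroup.mem_subgroupOf]
    constructor
    · rintro ⟨hgz, hgK⟩
      obtain ⟨i, hgi⟩ := (X.mem_C _).1 hgz
      have h : X.φ i ∈ X.L := hgi ▸ g.2
      have e : (⟨X.φ i, h⟩ : ↥X.L) = g := Subtype.ext hgi
      exact ⟨i, (hW i h).1 (e.symm ▸ hgK), hgi⟩
    · rintro ⟨i, hiW, hgi⟩
      refine ⟨(X.mem_C _).2 ⟨i, hgi⟩, ?_⟩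
      have h : X.φ i ∈ X.L := hgi ▸ g.2
      have e : (⟨X.φ i, h⟩ : ↥X.L) = g := Subtype.ext hgi
      exact e ▸ (hW i h).2 hiW
  · rintro g ⟨i, h, hgi⟩
    replace hgi : X.φ i = (g : G) := hgi
    exact Subtype.ext (by rw [Subgroup.coe_mul, ← hgi]; exact (hi i).2.2.1 h)
  · rintro g ⟨i, h, hgi⟩
    replace hgi : X.φ i = (g : G) := hgi
    simp only [inV4, Bool.or_eq_true, beq_iff_eq] at h
    have hh : i = fin 0 ∨ i = fin 85 ∨ i = fin 126 ∨ i = fin 157 := by
      rcases h with ((e | e) | e) | e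
      · exact Or.inl (Fin.ext e)
      · exact Or.inr (Or.inl (Fin.ext e))
      · exact Or.inr (Or.inr (Or.inl (Fin.ext e)))
      · exact Or.inr (Or.inr (Or.inr (Fin.ext e)))
    rcases hh with rfl | rfl | rfl | rfl
    · exact Or.inl (Subtype.ext (hgi.symm.trans X.map_one))
    · exact Or.inr (Or.inr (Or.inl (Subtype.ext hgi.symm)))
    · exact Or.inr (Or.inl (Subtype.ext hgi.symm))
    · refine Or.inr (Or.inr (Or.inr (Subtype.ext ?_)))
      rw [← hgi, ← huvm, X.map_mul]; rfl
  · rw [Subgroup.orderOf_mk]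
    exact X.orderOf_phi (by rw [lab_rep.2.2.1]; decide)
  · exact ⟨ka2, hk ▸ hwW, rfl⟩
  · intro h
    refine Subtype.ext ?_
    show (h : G) * X.φ ka2 * (h : G)⁻¹ = X.φ ka2
    rw [Subgroup.mem_centralizer_singleton_iff.1 h.2, mul_inv_cancel_right]
  · rintro ⟨i, h, e⟩
    rw [X.inj e, hk, hwV] at h
    exact Bool.false_ne_true h
  · exact fun e => absurd (X.inj ((congrArg Subtype.val e).trans X.map_one.symm)) (by decide)
  · exact fun e => absurd (X.inj ((congrArg Subtype.val e).trans X.map_one.symm)) (by decide)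
  · exact fun e => absurd (X.inj (congrArg Subtype.val e)) (by decide)
  · intro g hg
    exact Subgroup.mem_subgroupOf.2 (Subgroup.mem_centralizer_singleton_iff.2
      (hcent g (Subgroup.mem_centralizer_singleton_iff.1 g.2) (congrArg Subtype.val hg)))
  · intro t ht
    obtain ⟨i, e⟩ := (X.mem_C _).1 (Subgroup.mem_subgroupOf.1 ht)
    have hc : com i ka2 = true := by
      rw [X.com_iff, e]; exact Subgroup.mem_centralizer_singleton_iff.1 t.2
    refine Subtype.ext ?_
    show (t : G) * X.φ (fin 126) = X.φ (fin 126) * (t : G)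
    rw [← e]
    exact (X.com_iff _ _).1 ((hi i).2.2.2.2.2 hc)
  · obtain ⟨c, hc, e⟩ := hv
    exact isConj_iff.2 ⟨⟨c, Subgroup.mem_centralizer_singleton_iff.2 hc⟩, Subtype.ext e⟩
  · obtain ⟨c, hc, e⟩ := huv
    refine isConj_iff.2 ⟨⟨c, Subgroup.mem_centralizer_singleton_iff.2 hc⟩, Subtype.ext ?_⟩
    show c * X.φ (fin 126) * c⁻¹ = X.φ (fin 126) * X.φ (fin 85)
    rw [e, ← X.map_mul, huvm]
  · rintro y ⟨i, hiV, hyi⟩ hy1 h ⟨j, hjW, hj⟩
    replace hyi : X.φ i = (y : G) := hyi
    replace hj : X.φ j = (h : G) * (y : G) * (h : G)⁻¹ := hj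
    refine ⟨j, ?_, hj⟩
    by_contra hjV
    have hi0 : i.val ≠ 0 := fun e => hy1 (Subtype.ext (by
      rw [← hyi, show i = (0 : I) from Fin.ext e, X.map_one]; rfl))
    have hli := (hi i).2.2.2.1 hiV hi0
    have hci : IsConj (X.φ ka2) (X.φ i) := (F i (by omega)).2.2 hli
    have hcj : IsConj (X.φ i) (X.φ j) := isConj_iff.2 ⟨(h : G), by rw [hj, hyi]⟩
    rcases (hi j).2.2.2.2.1 hjW (by simpa using hjV) with e | e | e
    · have hcw : (h : G) * X.φ i * (h : G)⁻¹ = X.φ ka2 := by
        refine Eq.trans ?_ (congrArg X.φ (e.trans hk.symm))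
        rw [hj, hyi]
      have hfix : (h : G) * X.φ ka2 * (h : G)⁻¹ = X.φ ka2 := by
        rw [Subgroup.mem_centralizer_singleton_iff.1 h.2, mul_inv_cancel_right]
      have e' : X.φ i = X.φ ka2 := by
        have := hcw.trans hfix.symm
        exact mul_left_cancel (mul_right_cancel this)
      rw [X.inj e', hk, hwV] at hiV
      exact Bool.false_ne_true hiV
    · have hz := ((F j (by omega)).1).2 (Or.inl e)
      have h3 := (((F i (by omega)).1).1 ((hz.trans hcj.symm)))
      omega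
    · have hz := ((F j (by omega)).1).2 (Or.inr (Or.inr (Or.inr e)))
      have h3 := (((F i (by omega)).1).1 ((hz.trans hcj.symm)))
      omega

/-- The centraliser of `φ ka2` has order 96 or 480. -/
theorem card_L (F : Fus9 X) : Nat.card X.L = 96 ∨ Nat.card X.L = 480 := by
  classical
  haveI := Fact.mk Nat.prime_two
  obtain ⟨Q, hQ⟩ := X.sylow_T F
  have hodd : ((Subgroup.centralizer ({z} : Set G)).subgroupOf X.L).index % 2 = 1 := by
    rw [← Subgroup.inf_subgroupOf_right, ← hQ]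
    have := Q.not_dvd_index
    omega
  obtain ⟨K1, K2, h1, h2, hK⟩ := X.exists_two_chars F
  have hsets : (all1 fun i => !(com i ka2) || ((inA i && inB i) == inW8 i)) = true ∧
      com (fin 1) ka2 = true ∧ inA (fin 1) = true ∧ inB (fin 1) = false ∧ inW8 (fin 1) = false ∧
      sU (fin 85) = true ∧ sU (fin 157) = true := by decide +kernel
  obtain ⟨hAB, hc1, hA1, hB1, -, hu85, hu157⟩ := hsets
  have hcomW : ∀ i, X.φ i ∈ X.L → com i ka2 = true := fun i h => (X.com_iff i ka2).2 (X.mem_L.1 h)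
  refine X.card_centW_of_kernels F hodd (fun g hw hu => ?_) K1 K2 h1 h2 (fun e => ?_) (fun i h => ?_) ?_ ?_
  · have e : z = X.φ (fin 126) * X.w := by
      show z = X.φ ku * X.w
      rw [X.phi_ku, mul_assoc, X.ww, mul_one]
    rw [e]
    exact ((show Commute g (X.φ (fin 126)) from hu).mul_right (show Commute g X.w from hw)).eq
  · have hA := (hK (fin 1) hc1).1.2 hA1
    rw [e] at hA
    rw [(hK (fin 1) hc1).2.1 hA] at hB1
    exact Bool.false_ne_true hB1.symm
  · have hi := hcomW i h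
    have h' := all1_spec hAB i
    simp only [hi, Bool.not_true, Bool.false_or, beq_iff_eq] at h'
    rw [← h', Bool.and_eq_true]
    exact and_congr (hK i hi).1 (hK i hi).2
  · obtain ⟨c, hc, e⟩ := (X.rep_of_set F (i := fin 85)).2.1 hu85
    exact ⟨c, X.mem_L.1 hc, e⟩
  · obtain ⟨c, hc, e⟩ := (X.rep_of_set F (i := fin 157)).2.1 hu157
    exact ⟨c, X.mem_L.1 hc, e⟩

end Ctr

end CfsgLib.InvChar.AEight
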