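import Cfsg.Agent.Lib.InvChar.AEight.Table
import Cfsg.Agent.Lib.SporRecognition.CosetCert.Upper

/-!
Words and data for the subgroup isomorphic to the alternating group of degree eight: letters `0`, `1`
generate the centraliser of the involution, `2` and `3` are the elements of order three normalising
`inE` and `inF`.
-/

set_option autoImplicit false
set_option maxRecDepth 100000

namespace CfsgLib.InvChar.AEight

/-- Words. -/
abbrev Wd := List (Fin 4 × Bool)

/-- Inverse word. -/
def wInv (w : Wd) : Wd := w.reverse.map fun x => (x.1, !x.2)

/-- First generator of the centraliser. -/
def kc1 : I := fin 8
/-- Second generator of the centraliser. -/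
def kc2 : I := fin 21
/-- The fixed point in `inE` of the third letter. -/
def kb1 : I := fin 72
/-- The fixed point in `inF` of the fourth letter. -/
def kb3 : I := fin 114

/-- The coordinates of an element of `inA` in the basis `kp`, `kz`, `ka3`, `ka2`. -/
def coA (i : I) : ℕ := Nat.land (Nat.shiftRight 0xdc0000fe0000000000000000000000000000ba000098000000000000000000000000000076000054000000000000000000000000000000000000000000000000000000000000000000000000000032000010 (4 * i.val)) 15

/-- The action of the third letter on `inA`. -/
def mA1 (i : I) : I := fin (Nat.land (Nat.shiftRight 0x7f060000000055a2000000000000000000000000000000000000000000000000000000005a9d0000000078010000000000000000000000000000000000000000000000000000000054a3000000007e07000000000000000000000000000000000000000000000000000000000000000000000000000000000000000000000000000000000000000000000000000000000000000000000000000000005b9c000000007900 (8 * i.val)) 255)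
/-- The action of the fourth letter on `inA`. -/
def mA3 (i : I) : I := fin (Nat.land (Nat.shiftRight 0x77f0000000055a3000000000000000000000000000000000000000000000000000000005b9d00000000017900000000000000000000000000000000000000000000000000000000a254000000007e06000000000000000000000000000000000000000000000000000000000000000000000000000000000000000000000000000000000000000000000000000000000000000000000000000000009c5a000000007800 (8 * i.val)) 255)
/-- The action of the third letter on `inE`. -/
def mE1 (i : I) : I := fin (Nat.land (Nat.shiftRight 0x60000000000a200000000000000000000000000000000004e00000000008a00000000000000000000000000000000000000000000000000000000000000000000000000000000000000000000000000000000008400000000004800000000000000000000000000000000000000000000000000000000000000000000000000000000000000000000000000000000000000000000000000000000009c000000000000 (8 * i.val)) 255)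
/-- The action of the fourth letter on `inF`. -/
def mF3 (i : I) : I := fin (Nat.land (Nat.shiftRight 0x6c0000000000ae0000000000000000000000000000000000000000000000000000000000000000000000000000000000000000000000000000000000720000000000a800000000000000000000000000000000005400000000000600000000000000000000000000000000000000000000000000000000000000000000000000000000000000000000000000000000000000000000000000000000000000000000000000000000005a000000000000 (8 * i.val)) 255)

/-- Element words of the centraliser. -/
def cWords : List Wd := [
  [],
  [(1, true), (0, true), (0, true), (1, false), (0, true), (1, true)],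
  [(0, false), (0, false)],
  [(0, true), (1, true), (0, false), (1, false), (0, true), (1, true)],
  [(0, true), (0, true)],
  [(1, true), (0, true), (1, false), (0, false), (1, true)],
  [(0, true), (0, true), (0, true)],
  [(1, true), (0, false), (1, false), (0, true), (1, true)],
  [(0, true)],
  [(0, false), (1, true), (0, true), (1, false), (0, false), (1, true)],
  [(0, false)],
  [(1, true), (0, true), (1, false), (0, true), (0, true), (1, true)],
  [(0, true), (1, true), (0, false), (1, false), (0, true)],
  [(1, true), (0, true)],
  [(0, false), (1, true), (0, true), (1, false)],
  [(0, true), (0, true), (0, true), (1, true)],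
  [(0, true), (1, true), (0, true), (0, true), (1, false)],
  [(1, true), (0, false)],
  [(0, false), (1, true), (0, true), (1, false), (0, false)],
  [(1, true), (0, false), (0, false)],
  [(0, true), (0, true), (1, true), (0, true), (1, false)],
  [(1, true)],
  [(0, true), (1, true), (0, false), (1, false)],
  [(1, true), (0, true), (0, true)],
  [(0, true), (1, true), (0, true), (1, false)],
  [(0, false), (1, true)],
  [(1, true), (0, false), (1, false)],
  [(0, true), (0, true), (1, true), (0, false)],
  [(1, true), (0, true), (0, true), (1, false), (0, true)],
  [(0, true), (0, true), (1, true), (0, true)],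
  [(1, true), (0, false), (1, false), (0, false)],
  [(0, true), (0, true), (1, true)],
  [(1, true), (0, true), (0, true), (1, false)],
  [(0, false), (1, true), (0, false)],
  [(1, true), (0, false), (1, false), (0, true)],
  [(0, false), (1, true), (0, true)],
  [(1, true), (0, true), (1, false), (0, true)],
  [(0, true), (1, true), (0, true), (0, true)],
  [(1, true), (0, true), (1, false), (0, false)],
  [(0, true), (1, true), (0, false), (0, false)],
  [(1, true), (0, false), (0, false), (1, false)],
  [(0, true), (1, true)],
  [(0, false), (1, true), (0, false), (1, false)],
  [(0, true), (1, true), (0, false)],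
  [(1, true), (0, true), (1, false), (0, true), (0, true)],
  [(0, true), (1, true), (0, true)],
  [(1, true), (0, true), (1, false)],
  [(0, false), (0, false), (1, true)],
  [(1, false), (0, true), (1, true), (0, true)],
  [(0, true), (1, false), (0, true), (0, true)],
  [(1, false), (0, true), (1, true), (0, false)],
  [(0, true), (1, false), (0, false), (0, false)],
  [(1, false), (0, false), (0, false), (1, true)],
  [(0, true), (1, false)],
  [(0, false), (1, false), (0, false), (1, true)],
  [(0, true), (1, false), (0, false)],
  [(1, false), (0, true), (1, true), (0, true), (0, true)],
  [(0, true), (1, false), (0, true)],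
  [(1, false), (0, true), (1, true)],
  [(0, false), (0, false), (1, false)],
  [(0, true), (1, false), (0, false), (0, false), (1, false)],
  [(1, true), (1, true), (0, false), (1, false)],
  [(1, true), (0, false), (1, true)],
  [(0, false), (1, false), (0, false), (1, true), (1, true)],
  [(0, true), (1, false), (0, true), (1, false), (0, false)],
  [(0, true), (0, true), (1, true), (0, true), (1, true), (1, true)],
  [(0, true), (1, false), (0, true), (1, false)],
  [(1, true), (1, true), (0, true), (0, true), (1, false)],
  [(1, true), (0, true), (0, true), (1, true)],
  [(1, true), (1, true), (0, false), (1, false), (0, false)],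
  [(1, true), (0, false), (1, true), (0, true)],
  [(0, false), (1, true), (0, true), (1, true), (1, true)],
  [(0, true), (1, false), (0, false), (1, false), (0, true)],
  [(1, false), (0, true), (1, true), (1, true)],
  [(0, true), (0, true), (1, true), (0, true), (1, true)],
  [(0, false), (1, true), (1, true), (0, true), (1, false)],
  [(0, true), (1, false), (0, true), (0, true), (1, false)],
  [(1, true), (0, true), (0, true), (1, true), (1, true)],
  [(0, true), (0, true), (1, true), (0, true), (1, true), (0, false)],
  [(1, false), (0, false), (0, false), (1, true), (1, true)],
  [(0, false), (1, true), (0, true), (1, true)],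
  [(0, true), (1, true), (1, true), (0, false), (1, true)],
  [(0, true), (1, false), (0, false), (1, false)],
  [(1, true), (0, false), (1, true), (1, true)],
  [(0, true), (1, true), (1, true), (0, true), (0, true)],
  [(0, true), (1, true), (0, true), (1, true), (0, false), (1, false)],
  [(0, true), (1, true), (1, true)],
  [(1, true), (0, true), (1, false), (0, false), (1, false), (0, true)],
  [(0, true), (1, true), (1, true), (0, false), (0, false)],
  [(1, true), (0, true), (1, false), (0, true), (0, true), (1, false)],
  [(0, true), (1, true), (1, true), (0, false)],
  [(1, true), (0, false), (1, true), (0, true), (1, true)],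
  [(0, false), (0, false), (1, true), (1, true)],
  [(0, true), (1, true), (0, false), (1, true), (0, true), (1, false)],
  [(0, true), (1, true), (1, true), (0, true)],
  [(1, true), (0, true), (1, false), (0, false), (1, false)],
  [(0, true), (1, false), (0, false), (1, true), (0, true)],
  [(1, false), (0, true)],
  [(0, false), (1, false), (0, true), (1, true)],
  [(0, true), (0, true), (0, true), (1, false)],
  [(0, true), (1, false), (0, true), (0, true), (1, true)],
  [(1, false), (0, false)],
  [(0, false), (1, false), (0, true), (1, true), (0, false)],
  [(1, false), (0, false), (0, false)],
  [(0, true), (0, true), (1, false), (0, true), (1, true)],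
  [(1, false)],
  [(0, true), (1, false), (0, false), (1, true)],
  [(1, false), (0, true), (0, true)],
  [(0, true), (0, true), (0, true), (1, true), (1, true)],
  [(1, true), (0, false), (1, true), (0, true), (1, false)],
  [(1, true), (1, true), (0, true)],
  [(0, false), (1, true), (0, true), (1, false), (0, false), (1, false)],
  [(1, true), (1, true), (0, false)],
  [(0, false), (1, true), (0, false), (1, true), (0, true), (1, true)],
  [(1, true), (1, true)],
  [(0, true), (1, true), (0, true), (1, true), (0, false), (1, true)],
  [(1, true), (1, true), (0, false), (0, false)],
  [(0, true), (1, true), (0, false), (1, false), (0, true), (1, false)],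
  [(1, true), (1, true), (0, true), (0, true)],
  [(1, true), (0, true), (1, true), (0, false), (1, false)],
  [(0, true), (0, true), (1, true), (0, false), (1, true)],
  [(0, true), (1, false), (0, false), (1, true), (1, true)],
  [(0, false), (1, true), (0, false), (1, true), (0, true)],
  [(1, true), (0, false), (1, false), (0, false), (1, false)],
  [(1, false), (0, true), (1, false)],
  [(1, true), (1, true), (0, false), (0, false), (1, true)],
  [(0, false), (1, true), (0, false), (1, true)],
  [(0, true), (1, false), (0, true), (0, true), (1, true), (1, true)],
  [(1, false), (0, true), (1, false), (0, false)],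
  [(0, true), (1, true), (0, true), (1, true), (1, true)],
  [(1, false), (0, false), (0, false), (1, false)],
  [(1, true), (1, true), (0, true), (1, true)],
  [(0, true), (1, true), (0, false), (0, false), (1, true)],
  [(1, true), (1, true), (0, false), (1, true)],
  [(1, false), (0, false), (1, false)],
  [(0, false), (1, true), (0, false), (1, true), (1, true)],
  [(0, true), (1, true), (0, true), (1, true), (0, false)],
  [(0, true), (0, true), (1, false), (0, true), (1, true), (1, true)],
  [(0, true), (1, true), (0, true), (1, true)],
  [(1, true), (1, true), (0, true), (0, true), (1, true)],
  [(1, false), (0, true), (0, true), (1, false)],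
  [(1, true), (0, true), (1, false), (0, true), (1, false)],
  [(1, false), (0, false), (1, false), (0, true)],
  [(0, false), (1, false), (0, true), (1, true), (1, true)],
  [(0, true), (1, false), (0, true), (1, true)],
  [(0, false), (1, false)],
  [(1, false), (0, false), (1, true)],
  [(0, true), (0, true), (1, false), (0, false)],
  [(1, false), (0, true), (0, true), (1, true), (0, true)],
  [(0, true), (0, true), (1, false), (0, true)],
  [(1, false), (0, false), (1, true), (0, false)],
  [(0, true), (0, true), (1, false)],
  [(1, false), (0, true), (0, true), (1, true)],
  [(0, false), (1, false), (0, false)],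
  [(1, false), (0, false), (1, true), (0, true)],
  [(0, false), (1, false), (0, true)],
  [(0, true), (0, true), (1, false), (0, false), (1, false)],
  [(0, true), (1, true), (0, false), (1, true), (1, true)],
  [(0, false), (1, false), (0, false), (1, false), (0, true)],
  [(1, true), (1, true), (0, true), (1, false), (0, true)],
  [(1, true), (0, true), (1, true)],
  [(1, true), (1, true), (0, false), (0, false), (1, false)],
  [(0, false), (1, false), (0, false), (1, false)],
  [(0, true), (1, true), (0, true), (0, true), (1, true), (1, true)],
  [(1, true), (0, true), (1, true), (0, false)],
  [(0, true), (1, false), (0, true), (1, true), (1, true)],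
  [(1, true), (0, false), (0, false), (1, true)],
  [(1, true), (1, true), (0, true), (1, false)],
  [(0, true), (0, true), (1, true), (1, true), (0, true)],
  [(1, true), (0, false), (1, false), (0, true), (1, false)],
  [(0, true), (0, true), (1, true), (1, true), (0, false)],
  [(0, true), (1, true), (0, false), (1, true), (0, true), (1, true)],
  [(0, false), (1, true), (1, true)],
  [(1, true), (0, true), (1, true), (0, false), (1, true)],
  [(0, false), (1, true), (1, true), (0, true)],
  [(1, true), (0, true), (0, true), (1, false), (0, true), (1, false)],
  [(0, false), (1, true), (1, true), (0, false)],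
  [(1, true), (0, true), (1, true), (0, false), (1, true), (0, true)],
  [(0, true), (0, true), (1, true), (1, true)],
  [(0, false), (1, true), (0, false), (1, true), (0, true), (1, false)],
  [(0, true), (1, true), (0, false), (1, true), (0, true)],
  [(1, true), (0, true), (1, true), (1, true)],
  [(0, true), (0, true), (1, false), (0, true), (1, false)],
  [(0, false), (1, true), (1, true), (0, true), (1, true)],
  [(0, true), (1, true), (0, true), (0, true), (1, true)],
  [(1, false), (0, true), (0, true), (1, true), (1, true)],
  [(0, true), (0, true), (1, false), (0, true), (1, false), (0, false)],
  [(1, true), (0, false), (0, false), (1, true), (1, true)],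
  [(0, false), (1, false), (0, true), (1, false)],
  [(0, true), (1, true), (1, true), (0, false), (1, false)],
  [(0, true), (1, true), (0, false), (1, true)],
  [(1, false), (0, false), (1, true), (1, true)]]

/-- The word of an element of the centraliser. -/
def cWd (i : I) : Wd := cWords.getD i.val []

/-- The element whose product with the third letter has order four. -/
def kx1 : I := fin 10
/-- A word conjugating that product into the centraliser modulo `inE`. -/
def wx1 : Wd := [(2, true), (0, false)]
/-- The conjugate modulo `inE`. -/
def ky1 : I := fin 21
/-- The element whose product with the fourth letter has order four. -/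
def kx3 : I := fin 41
/-- A word conjugating that product into the centraliser modulo `inF`. -/
def wx3 : Wd := [(3, true), (0, false)]
/-- The conjugate modulo `inF`. -/
def ky3 : I := fin 33

/-- Conjugation of an element of the centraliser by a letter. -/
def conjW (l : Fin 4) (x y : I) : Wd := [(l, true)] ++ cWd x ++ [(l, false)] ++ wInv (cWd y)

/-- Relations of the centraliser. -/
def cRels : List Wd := [
  [(1, true), (1, true), (1, true), (1, true)],
  [(1, false), (1, false), (1, false), (1, false)],
  [(0, true), (0, true), (0, true), (0, true), (0, true), (0, true)],
  [(0, true), (1, true), (1, true), (1, true), (1, true), (0, false)],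
  [(0, true), (1, false), (1, false), (1, false), (1, false), (0, false)],
  [(0, false), (0, false), (0, false), (0, false), (0, false), (0, false)],
  [(0, false), (1, true), (1, true), (1, true), (1, true), (0, true)],
  [(0, false), (1, false), (1, false), (1, false), (1, false), (0, true)],
  [(0, true), (0, true), (0, true), (1, true), (0, true), (0, true), (0, true), (1, false)],
  [(0, true), (0, true), (0, true), (1, true), (0, false), (0, false), (0, false), (1, false)],
  [(0, true), (0, true), (0, true), (1, false), (0, true), (0, true), (0, true), (1, true)],
  [(0, true), (0, true), (0, true), (1, false), (0, false), (0, false), (0, false), (1, true)]]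

/-- The relations. -/
def allW : List Wd := [
  [(2, true), (2, true), (2, true)],
  [(3, true), (3, true), (3, true)],
  [(2, true), (3, true), (2, false), (3, false)],
  [(2, true)] ++ cWd kb1 ++ [(2, false)] ++ wInv (cWd kb1),
  conjW 2 kp (mA1 kp), conjW 2 kz (mA1 kz), conjW 2 ka3 (mA1 ka3), conjW 2 ka2 (mA1 ka2),
  [(3, true)] ++ cWd kb3 ++ [(3, false)] ++ wInv (cWd kb3),
  conjW 3 kp (mA3 kp), conjW 3 kz (mA3 kz), conjW 3 ka3 (mA3 ka3), conjW 3 ka2 (mA3 ka2),
  cWd kb1 ++ [(3, true)] ++ wInv (cWd kb1) ++ [(3, true)],
  cWd kb3 ++ [(2, true)] ++ wInv (cWd kb3) ++ [(2, true)],
  (cWd kx1 ++ [(2, true)]) ++ (cWd kx1 ++ [(2, true)]) ++ (cWd kx1 ++ [(2, true)]) ++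
    (cWd kx1 ++ [(2, true)]),
  (cWd kx3 ++ [(3, true)]) ++ (cWd kx3 ++ [(3, true)]) ++ (cWd kx3 ++ [(3, true)]) ++
    (cWd kx3 ++ [(3, true)])] ++ cRels

/-- Generators of the image of the centraliser. -/
def subW : List Wd := [[(0, true)], [(1, true)]]

/-- The letters. -/
def lets : List (Fin 4 × Bool) :=
  [(0, true), (0, false), (1, true), (1, false), (2, true), (2, false), (3, true), (3, false)]

/-- The images of the four letters as permutations of eight points. -/
def permTbl : List (List (Fin 8)) := [[1, 0, 5, 4, 7, 6, 3, 2], [4, 5, 1, 0, 6, 7, 3, 2], [0, 2, 3, 1, 5, 7, 6, 4], [0, 2, 3, 1, 7, 4, 6, 5]]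

end CfsgLib.InvChar.AEight
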