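import Mathlib.GroupTheory.Perm.Cycle.Type
import Mathlib.GroupTheory.Index
import Mathlib.GroupTheory.GroupAction.Quotient
import Mathlib.GroupTheory.OrderOfElement
import Mathlib.Algebra.GroupWithZero.Units.Fintype
import Mathlib.Algebra.Ring.Int.Units

/-!
Thompson's transfer lemma, with control of the involutions of the subgroup of index two obtained.
-/

set_option autoImplicit false
set_option linter.style.haveILetI false

namespace CfsgLib.InvChar.AEight

/-- The sign of a permutation of square one, from the number of moved points. -/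
theorem sign_of_sq {α : Type*} [Fintype α] [DecidableEq α] {σ : Equiv.Perm α} (h : σ * σ = 1) :
    2 ∣ σ.support.card ∧ Equiv.Perm.sign σ = (-1) ^ (σ.support.card / 2) := by
  have ht : ∀ n ∈ σ.cycleType, n = 2 := fun n hn => by
    have h1 : n ∣ 2 := (Equiv.Perm.dvd_of_mem_cycleType hn).trans
      (orderOf_dvd_of_pow_eq_one (by rw [pow_two, h]))
    have h2 := Equiv.Perm.two_le_of_mem_cycleType hn
    have h3 := Nat.le_of_dvd (by norm_num) h1
    omega
  have hr := Multiset.eq_replicate_card.2 ht
  have hsum := σ.sum_cycleType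
  rw [hr, Multiset.sum_replicate, smul_eq_mul] at hsum
  refine ⟨⟨_, hsum.symm.trans (mul_comm _ _)⟩, ?_⟩
  rw [Equiv.Perm.sign_of_cycleType, hr, Multiset.sum_replicate, Multiset.card_replicate, smul_eq_mul,
    ← hsum, Nat.mul_div_cancel _ (by norm_num : 0 < 2), pow_add, pow_mul', neg_one_pow_two, one_pow,
    one_mul]

/-- An involution with no conjugate in a subgroup of index two of a subgroup `T` of odd index lies outside
a subgroup of index two which contains every involution whose conjugates in `T` all lie in that subgroup. -/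
theorem exists_index_two_avoiding {H : Type*} [Group H] [Finite H] {T M : Subgroup H} {x : H}
    (hT : T.index % 2 = 1) (hMT : M ≤ T) (h2 : 2 * Nat.card M = Nat.card T) (hx : orderOf x = 2)
    (hno : ∀ h, h * x * h⁻¹ ∉ M) :
    ∃ K : Subgroup H, K.index = 2 ∧ x ∉ K ∧
      ∀ y, orderOf y = 2 → (∀ h, h * y * h⁻¹ ∈ T → h * y * h⁻¹ ∈ M) → y ∈ K := by
  classical
  haveI := Fintype.ofFinite (H ⧸ M)
  haveI := Fintype.ofFinite (H ⧸ T)
  let ρ := MulAction.toPermHom H (H ⧸ M)
  let τ := MulAction.toPermHom H (H ⧸ T)
  let p : H ⧸ M → H ⧸ T := Quotient.map' id fun a b h => by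
    rw [QuotientGroup.leftRel_apply] at h ⊢
    exact hMT h
  have hindex : M.index = 2 * T.index := by
    refine Nat.eq_of_mul_eq_mul_left (Nat.card_pos (α := M)) ?_
    rw [M.card_mul_index, ← T.card_mul_index, ← h2]
    ring
  have hfixM : ∀ (y a : H), ρ y (QuotientGroup.mk a) = QuotientGroup.mk a ↔ a⁻¹ * y * a ∈ M := by
    intro y a
    show (QuotientGroup.mk (y * a) : H ⧸ M) = QuotientGroup.mk a ↔ _
    rw [eq_comm, QuotientGroup.eq, mul_assoc]
  have hfixT : ∀ (y a : H), τ y (QuotientGroup.mk a) = QuotientGroup.mk a ↔ a⁻¹ * y * a ∈ T := by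
    intro y a
    show (QuotientGroup.mk (y * a) : H ⧸ T) = QuotientGroup.mk a ↔ _
    rw [eq_comm, QuotientGroup.eq, mul_assoc]
  have hsq : ∀ y : H, orderOf y = 2 → ρ y * ρ y = 1 ∧ τ y * τ y = 1 := fun y hy => by
    have h1 : y * y = 1 := by rw [← pow_two, ← hy, pow_orderOf_eq_one]
    exact ⟨by rw [← map_mul, h1, map_one], by rw [← map_mul, h1, map_one]⟩
  -- the sign is `-1` at `x`
  have hxs : Equiv.Perm.sign (ρ x) = -1 := by
    have hall : (ρ x).support = Finset.univ := by
      ext c
      simp only [Finset.mem_univ, iff_true, Equiv.Perm.mem_support]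
      refine QuotientGroup.induction_on c fun a h => ?_
      refine hno a⁻¹ ?_
      rw [inv_inv]
      exact (hfixM x a).1 h
    obtain ⟨-, hs⟩ := sign_of_sq (hsq x hx).1
    rw [hs, hall, Finset.card_univ, ← Nat.card_eq_fintype_card, ← Subgroup.index, hindex,
      Nat.mul_div_cancel_left _ (by norm_num : 0 < 2), (Nat.odd_iff.2 hT).neg_one_pow]
  refine ⟨(Equiv.Perm.sign.comp ρ).ker, ?_, fun h => ?_, fun y hy hyT => ?_⟩
  · rw [Subgroup.index_ker]
    have hr : (Equiv.Perm.sign.comp ρ).range = ⊤ := by
      refine top_unique fun a _ => ?_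
      rcases Int.units_eq_one_or a with rfl | rfl
      · exact one_mem _
      · exact ⟨x, hxs⟩
    rw [hr, Subgroup.card_top, Nat.card_eq_fintype_card, Fintype.card_units_int]
  · have h1 : Equiv.Perm.sign (ρ x) = 1 := MonoidHom.mem_ker.1 h
    rw [hxs] at h1
    exact absurd h1 (by decide)
  · -- the moved cosets of `M` lie in pairs over the moved cosets of `T`
    have hmove : ∀ a : H, ρ y (QuotientGroup.mk a) = QuotientGroup.mk a ↔
        τ y (QuotientGroup.mk a) = QuotientGroup.mk a := by
      intro a
      rw [hfixM, hfixT]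
      refine ⟨fun h => hMT h, fun h => ?_⟩
      have := hyT a⁻¹
      rw [inv_inv] at this
      exact this h
    have hfib : ∀ b : H ⧸ T, (Finset.univ.filter fun c => p c = b).card = 2 := by
      intro b
      refine QuotientGroup.induction_on b fun a => ?_
      have e1 : Nat.card {c : H ⧸ M // p c = (QuotientGroup.mk a : H ⧸ T)} = Nat.card (↥T ⧸ M.subgroupOf T) := by
        refine (Nat.card_congr (Equiv.ofBijective (fun q => ?_) ?_)).symm
        · refine Quotient.liftOn' q (fun t => (⟨QuotientGroup.mk (a * (t : H)), ?_⟩ :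
            {c : H ⧸ M // p c = (QuotientGroup.mk a : H ⧸ T)})) ?_
          · show (QuotientGroup.mk (a * (t : H)) : H ⧸ T) = QuotientGroup.mk a
            rw [eq_comm, QuotientGroup.eq, inv_mul_cancel_left]
            exact t.2
          · intro s t hst
            rw [QuotientGroup.leftRel_apply, Subgroup.mem_subgroupOf] at hst
            refine Subtype.ext (QuotientGroup.eq.2 ?_)
            rw [mul_inv_rev, mul_assoc, inv_mul_cancel_left]
            exact hst
        · refine ⟨fun q r => ?_, ?_⟩
          · refine QuotientGroup.induction_on q fun s => QuotientGroup.induction_on r fun t h => ?_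
            have h' := QuotientGroup.eq.1 (congrArg Subtype.val h)
            rw [mul_inv_rev, mul_assoc, inv_mul_cancel_left] at h'
            exact QuotientGroup.eq.2 h'
          · rintro ⟨c, hc⟩
            obtain ⟨g, rfl⟩ := QuotientGroup.mk_surjective c
            have hg : a⁻¹ * g ∈ T := QuotientGroup.eq.1 (Eq.symm hc)
            exact ⟨QuotientGroup.mk ⟨_, hg⟩, Subtype.ext (congrArg QuotientGroup.mk (mul_inv_cancel_left a g))⟩
      have e2 : Nat.card (↥T ⧸ M.subgroupOf T) = 2 := by
        have h := (M.subgroupOf T).card_mul_index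
        rw [Nat.card_congr (Subgroup.subgroupOfEquivOfLe hMT).toEquiv, ← h2, mul_comm 2] at h
        exact Nat.eq_of_mul_eq_mul_left Nat.card_pos h
      rw [← Fintype.card_subtype, ← Nat.card_eq_fintype_card, e1, e2]
    have hcard : (ρ y).support.card = 2 * (τ y).support.card := by
      have hmap : ∀ c ∈ (ρ y).support, p c ∈ (τ y).support := by
        intro c
        refine QuotientGroup.induction_on c fun a h => ?_
        rw [Equiv.Perm.mem_support] at h ⊢
        exact fun e => h ((hmove a).2 e)
      rw [Finset.card_eq_sum_card_fiberwise hmap, Finset.sum_const_nat (m := 2) ?_, mul_comm]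
      intro b hb
      rw [← hfib b]
      refine congrArg Finset.card (Finset.ext fun c => ?_)
      simp only [Finset.mem_filter, Finset.mem_univ, true_and, and_iff_right_iff_imp]
      intro e
      subst e
      revert hb
      refine QuotientGroup.induction_on c fun a hb => ?_
      rw [Equiv.Perm.mem_support] at hb ⊢
      exact fun e => hb ((hmove a).1 e)
    obtain ⟨⟨k, hk⟩, -⟩ := sign_of_sq (hsq y hy).2
    rw [MonoidHom.mem_ker, MonoidHom.comp_apply, (sign_of_sq (hsq y hy).1).2, hcard,
      Nat.mul_div_cancel_left _ (by norm_num : 0 < 2), hk, pow_mul, neg_one_pow_two, one_pow]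

end CfsgLib.InvChar.AEight
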